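import Mathlib

/-!
A set with four colours in an elementary abelian group of exponent two without symmetries.
-/

set_option autoImplicit false

namespace CfsgLib.EvenPair.Line

/-- A basis of a group of exponent two. -/
theorem exists_basis_two (D : Type) [CommGroup D] [Finite D] [Nontrivial D] (h2 : ∀ a : D, a * a = 1) :
    ∃ (d : ℕ) (b : Fin d → D) (c : Fin d → (D → ZMod 2)), 0 < d ∧ Nat.card D = 2 ^ d ∧
      (∀ i x y, c i (x * y) = c i x + c i y) ∧ (∀ i j, c i (b j) = if i = j then 1 else 0) ∧
      Subgroup.closure (Set.range b) = ⊤ := by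
  classical
  letI : Module (ZMod 2) (Additive D) := AddCommGroup.zmodModule (n := 2) (G := Additive D) fun x => by
    rw [two_nsmul]; exact congrArg Additive.ofMul (h2 x.toMul)
  haveI : Module.Finite (ZMod 2) (Additive D) := Module.Finite.of_finite
  let B := Module.finBasis (ZMod 2) (Additive D)
  have hcard : Nat.card D = 2 ^ Module.finrank (ZMod 2) (Additive D) := by
    have h := Module.natCard_eq_pow_finrank (K := ZMod 2) (V := Additive D)
    rw [Nat.card_zmod] at h
    rwa [← Nat.card_congr (Additive.toMul (α := D))]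
  refine ⟨_, fun i => Additive.toMul (B i), fun i x => B.repr (Additive.ofMul x) i, ?_, hcard, ?_, ?_, ?_⟩
  · by_contra h
    rw [Nat.eq_zero_of_not_pos h, pow_zero] at hcard
    exact absurd hcard (Finite.one_lt_card.ne')
  · intro i x y
    simp only [ofMul_mul, map_add, Finsupp.add_apply]
  · intro i j
    simp [Finsupp.single_apply, eq_comm]
  · refine top_unique fun x _ => ?_
    have hx : Additive.ofMul x ∈ Submodule.span (ZMod 2) (Set.range B) := B.span_eq ▸ Submodule.mem_top
    have key : ∀ z, z ∈ Submodule.span (ZMod 2) (Set.range B) →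
        Additive.toMul z ∈ Subgroup.closure (Set.range fun i => Additive.toMul (B i)) := by
      intro z hz
      induction hz using Submodule.span_induction with
      | mem z hz =>
        obtain ⟨i, rfl⟩ := hz
        exact Subgroup.subset_closure ⟨i, rfl⟩
      | zero => exact one_mem _
      | add u w _ _ hu hw => exact mul_mem hu hw
      | smul c u _ hu =>
        rcases (show c = 0 ∨ c = 1 by revert c; decide) with rfl | rfl
        · rw [zero_smul]; exact one_mem _
        · rwa [one_smul]
    exact key _ hx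

/-- The coloured set: basis vectors and sums of two, the first vector has colour two, the others zero,
sums of neighbours one, other sums three. -/
theorem exists_scheme_two (D : Type) [CommGroup D] [Finite D] [Nontrivial D] (h2 : ∀ a : D, a * a = 1) :
    ∃ (S : Finset D) (col : D → Fin 4) (e0 : D), (1 : D) ∉ S ∧ e0 ∈ S ∧ col e0 = 2 ∧
      Subgroup.closure (S : Set D) = ⊤ ∧
      Subgroup.closure ({a | a ∈ S ∧ col a = 0} ∪ {e0}) = ⊤ ∧
      (Nat.card D = 2 ∨ ∃ e1, e1 ∈ S ∧ col e1 = 0 ∧ e0 * e1 ∈ S ∧ col (e0 * e1) = 1) ∧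
      (∀ T : D ≃* D, (∀ a, T a ∈ S ↔ a ∈ S) → (∀ a ∈ S, col (T a) = col a) → T = MulEquiv.refl D) ∧
      ∀ (K : Type) [Field K] (ψ : D → K), ψ 1 = 1 → (∀ a ∈ S, ψ a = 1) → (∀ a, ψ a ≠ 0) →
        (∀ a b c, ψ (a * b * c) * ψ a * ψ b * ψ c = ψ (a * b) * ψ (a * c) * ψ (b * c)) →
        ∀ a b, ψ (a * b) = ψ a * ψ b := by
  classical
  obtain ⟨d, b, c, hd, hcard, hcadd, hcb, hgen⟩ := exists_basis_two D h2
  let o : Fin d := ⟨0, hd⟩
  let SP : Finset D := ((Finset.univ : Finset (Fin d × Fin d)).filter fun q => q.1 < q.2).image fun q => b q.1 * b q.2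
  let S : Finset D := Finset.univ.image b ∪ SP
  let Adj : D → Prop := fun x => ∃ i j : Fin d, (j : ℕ) = i + 1 ∧ x = b i * b j
  let col : D → Fin 4 := fun x => if x = b o then 2 else if ∃ i, x = b i then 0 else if Adj x then 1 else 3
  have memS : ∀ x, x ∈ S ↔ (∃ i, x = b i) ∨ ∃ i j, i < j ∧ x = b i * b j := fun x => by
    simp [S, SP, eq_comm]
  have hc1 : ∀ i, c i 1 = 0 := fun i => by
    have := hcadd i 1 1
    rw [one_mul] at this
    exact add_eq_left.mp this.symm
  have hbinj : Function.Injective b := fun i j h => by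
    have := congrArg (c i) h
    rw [hcb, hcb, if_pos rfl] at this
    by_contra hne
    rw [if_neg hne] at this
    exact one_ne_zero this
  have hpair : ∀ i j l : Fin d, i ≠ j → b l ≠ b i * b j := by
    intro i j l hij h
    have hi := congrArg (c i) h
    have hj := congrArg (c j) h
    rw [hcadd, hcb, hcb, hcb, if_pos rfl, if_neg hij, add_zero] at hi
    rw [hcadd, hcb, hcb, hcb, if_pos rfl, if_neg hij.symm, zero_add] at hj
    by_cases e : i = l
    · rw [if_neg (fun e' => hij (e.trans e'.symm))] at hj; exact zero_ne_one hj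
    · rw [if_neg e] at hi; exact zero_ne_one hi
  have hpinj : ∀ i j i' j' : Fin d, i ≠ j → i' ≠ j' → b i * b j = b i' * b j' → i' = i ∨ i' = j := by
    intro i j i' j' _ hij' h
    have hi := congrArg (c i') h
    rw [hcadd, hcadd, hcb, hcb, hcb, hcb, if_pos rfl, if_neg hij', add_zero] at hi
    by_contra hne
    push Not at hne
    rw [if_neg hne.1, if_neg hne.2, add_zero] at hi
    exact zero_ne_one hi
  have hcolb : ∀ i : Fin d, i ≠ o → col (b i) = 0 := fun i hi => by
    have : b i ≠ b o := fun e => hi (hbinj e)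
    simp only [col, if_neg this]
    rw [if_pos ⟨i, rfl⟩]
  have hcolA : ∀ i j : Fin d, (j : ℕ) = i + 1 → col (b i * b j) = 1 := fun i j hij => by
    have hne : i ≠ j := fun e => by rw [e] at hij; omega
    simp only [col, if_neg (hpair i j o hne).symm]
    rw [if_neg (fun ⟨l, hl⟩ => hpair i j l hne hl.symm), if_pos ⟨i, j, hij, rfl⟩]
  have hcolo : col (b o) = 2 := if_pos rfl
  have hcol2 : ∀ x, col x = 2 → x = b o := fun x h => by
    simp only [col] at h
    split_ifs at h with h1 <;> first | exact h1 | exact absurd h (by decide)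
  have hcol0 : ∀ x, col x = 0 → ∃ i, i ≠ o ∧ x = b i := fun x h => by
    simp only [col] at h
    split_ifs at h with h1 h2' <;> try exact absurd h (by decide)
    obtain ⟨i, rfl⟩ := h2'
    exact ⟨i, fun e => h1 (by rw [e]), rfl⟩
  have hcol1 : ∀ x, col x = 1 → Adj x := fun x h => by
    simp only [col] at h
    split_ifs at h with h1 h2' h3 <;> first | exact h3 | exact absurd h (by decide)
  have memb : ∀ i, b i ∈ S := fun i => (memS _).mpr (Or.inl ⟨i, rfl⟩)
  have memA : ∀ i j : Fin d, (j : ℕ) = i + 1 → b i * b j ∈ S := fun i j h =>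
    (memS _).mpr (Or.inr ⟨i, j, Fin.lt_def.mpr (by omega), rfl⟩)
  refine ⟨S, col, b o, ?_, memb o, hcolo, ?_, ?_, ?_, ?_, ?_⟩
  · intro h
    rcases (memS 1).mp h with ⟨i, hi⟩ | ⟨i, j, hij, hh⟩
    · have := congrArg (c i) hi
      rw [hc1, hcb, if_pos rfl] at this
      exact zero_ne_one this
    · have := congrArg (c i) hh
      rw [hc1, hcadd, hcb, hcb, if_pos rfl, if_neg hij.ne, add_zero] at this
      exact zero_ne_one this
  · exact top_unique (hgen.ge.trans (Subgroup.closure_mono fun x hx => by
      obtain ⟨i, rfl⟩ := hx; exact Finset.mem_coe.mpr (memb i)))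
  · refine top_unique (hgen.ge.trans (Subgroup.closure_mono fun x hx => ?_))
    obtain ⟨i, rfl⟩ := hx
    by_cases hi : i = o
    · exact Or.inr (by rw [hi]; rfl)
    · exact Or.inl ⟨memb i, hcolb i hi⟩
  · rcases Nat.lt_or_ge 1 d with h | h
    · right
      exact ⟨b ⟨1, h⟩, memb _, hcolb _ (fun e => by simpa [o] using congrArg Fin.val e),
        memA o ⟨1, h⟩ rfl, hcolA o ⟨1, h⟩ rfl⟩
    · left
      rw [hcard, show d = 1 by omega, pow_one]
  · intro T hTS hTc
    have hT0 : T (b o) = b o := hcol2 _ ((hTc _ (memb o)).trans hcolo)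
    have hTb : ∀ i : Fin d, ∃ j, T (b i) = b j := fun i => by
      by_cases hi : i = o
      · exact ⟨o, hi ▸ hT0⟩
      · obtain ⟨j, -, hj⟩ := hcol0 _ ((hTc _ (memb i)).trans (hcolb i hi))
        exact ⟨j, hj⟩
    choose π hπ using hTb
    have hπinj : Function.Injective π := fun i j h => hbinj (T.injective (by rw [hπ, hπ, h]))
    have hπid : ∀ (n : ℕ) (hn : n < d), π ⟨n, hn⟩ = ⟨n, hn⟩ := by
      intro n
      induction n using Nat.strong_induction_on with
      | _ n ih =>
        intro hn
        rcases Nat.eq_zero_or_pos n with rfl | hpos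
        · exact hbinj (by rw [← hπ]; exact hT0)
        let q : Fin d := ⟨n - 1, by omega⟩
        have hq : π q = q := ih _ (by omega) _
        have hadj : ((⟨n, hn⟩ : Fin d) : ℕ) = (q : ℕ) + 1 := by simp only [q]; omega
        have h1 := hcol1 _ ((hTc _ (memA q ⟨n, hn⟩ hadj)).trans (hcolA _ _ hadj))
        rw [map_mul, hπ, hπ, hq] at h1
        obtain ⟨i, j, hij, hij'⟩ := h1
        have hqn : q ≠ π ⟨n, hn⟩ := fun e => by
          have := congrArg Fin.val (hπinj (hq.trans e))
          simp only [q] at this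
          omega
        have hne : i ≠ j := fun e => by rw [e] at hij; omega
        have h3 := hpinj i j q _ hne hqn hij'.symm
        have h4 := hpinj i j (π ⟨n, hn⟩) q hne hqn.symm (hij'.symm.trans (mul_comm _ _))
        have hcase : ((π ⟨n, hn⟩ : Fin d) : ℕ) = n ∨ ((π ⟨n, hn⟩ : Fin d) : ℕ) + 1 = (q : ℕ) := by
          rcases h3 with e | e <;> rcases h4 with e' | e'
          · exact absurd (e.trans e'.symm) hqn
          · left; rw [e', hij, ← e]; exact hadj.symm
          · right; rw [e', e, hij]
          · exact absurd (e.trans e'.symm) hqn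
        rcases hcase with e | e
        · exact Fin.ext e
        · exfalso
          have hlt : ((π ⟨n, hn⟩ : Fin d) : ℕ) < n := by simp only [q] at e; omega
          have := congrArg Fin.val (hπinj (ih _ hlt (π ⟨n, hn⟩).2))
          simp only at this
          omega
    refine MulEquiv.ext fun x => ?_
    have hx : x ∈ Subgroup.closure (Set.range b) := hgen ▸ Subgroup.mem_top x
    induction hx using Subgroup.closure_induction with
    | mem z hz =>
      obtain ⟨i, rfl⟩ := hz
      rw [hπ, hπid i.1 i.2]; rfl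
    | one => exact map_one T
    | mul u w _ _ hu hw => rw [map_mul, hu, hw]; rfl
    | inv u _ hu => rw [map_inv, hu]; rfl
  · intro K _ ψ hψ1 hψS hψ0 hq
    let B : D → D → K := fun x y => ψ (x * y) / (ψ x * ψ y)
    have hne : ∀ x y, ψ x * ψ y ≠ 0 := fun x y => mul_ne_zero (hψ0 _) (hψ0 _)
    have hBsymm : ∀ x y, B x y = B y x := fun x y => by simp only [B, mul_comm x y, mul_comm (ψ x)]
    have hBmul : ∀ x y z, B x (y * z) = B x y * B x z := fun x y z => by
      simp only [B]
      rw [← mul_assoc, div_mul_div_comm, div_eq_div_iff (hne _ _) (mul_ne_zero (hne _ _) (hne _ _))]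
      linear_combination (ψ x) * hq x y z
    have hB1 : ∀ x, B x 1 = 1 := fun x => by
      simp only [B, mul_one, hψ1]; exact div_self (hψ0 x)
    have hbb : ∀ i j, B (b i) (b j) = 1 := by
      intro i j
      simp only [B, hψS _ (memb i), hψS _ (memb j), mul_one, div_one]
      rcases lt_trichotomy i j with h | rfl | h
      · exact hψS _ ((memS _).mpr (Or.inr ⟨i, j, h, rfl⟩))
      · rw [h2, hψ1]
      · rw [mul_comm]; exact hψS _ ((memS _).mpr (Or.inr ⟨j, i, h, rfl⟩))
    have hgen' : ∀ x, (∀ i, B x (b i) = 1) → ∀ y, B x y = 1 := by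
      intro x hxi y
      have hy : y ∈ Subgroup.closure (Set.range b) := hgen ▸ Subgroup.mem_top y
      induction hy using Subgroup.closure_induction with
      | mem z hz => obtain ⟨i, rfl⟩ := hz; exact hxi i
      | one => exact hB1 x
      | mul u w _ _ hu hw => rw [hBmul, hu, hw, one_mul]
      | inv u _ hu => rwa [inv_eq_of_mul_eq_one_right (h2 u)]
    intro x y
    have h3 : B x y = 1 := hgen' x (fun i => by rw [hBsymm]; exact hgen' (b i) (hbb i) x) y
    exact (div_eq_one_iff_eq (hne x y)).mp h3

end CfsgLib.EvenPair.Line
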