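import Cfsg.Agent.OddPair.SmallAut
import Cfsg.Agent.Involution.BaerSuzuki
import Cfsg.Agent.Involution.Dihedral

/-!
A completely reducible solvable group of automorphisms of order prime to three of an elementary
group of order 64, without invariant subgroups of order eight and without fixed points, has no
nontrivial element fixing at least sixteen points.
-/

set_option autoImplicit false
set_option linter.style.haveILetI false

namespace CfsgLib.EvenPair.Line

open CfsgLib.OddPair

variable {U : Type} [CommGroup U] [Finite U]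

/-- The points fixed by a set of automorphisms. -/
def fixU (Z : Subgroup (MulAut U)) : Subgroup U where
  carrier := {x | ∀ g ∈ Z, g x = x}
  one_mem' := fun g _ => map_one _
  mul_mem' := fun {a b} ha hb g hg => by rw [map_mul, ha g hg, hb g hg]
  inv_mem' := fun {a} ha g hg => by rw [map_inv, ha g hg]

theorem mem_fixU_zpowers {y : MulAut U} {x : U} : x ∈ fixU (Subgroup.zpowers y) ↔ y x = x := by
  refine ⟨fun h => h y (Subgroup.mem_zpowers y), fun h g hg => ?_⟩
  exact (Subgroup.zpowers_le.mpr (show y ∈ MulAction.stabilizer (MulAut U) x from h)) hg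

theorem fixU_card_modEq {r : ℕ} [Fact r.Prime] {Z : Subgroup (MulAut U)} (hZ : IsPGroup r Z) (W : Subgroup U)
    (hW : ∀ g ∈ Z, ∀ x ∈ W, g x ∈ W) : Nat.card W ≡ Nat.card (fixU Z ⊓ W : Subgroup U) [MOD r] := by
  letI : MulAction Z W :=
    { smul := fun a x => ⟨(a : MulAut U) x, hW a a.2 x x.2⟩
      one_smul := fun x => Subtype.ext rfl
      mul_smul := fun a b x => Subtype.ext rfl }
  refine (hZ.card_modEq_card_fixedPoints W).trans (congrArg (· % r) (Nat.card_congr ?_))
  exact
    { toFun := fun x => ⟨(x.1 : U), fun g hg => congrArg Subtype.val (x.2 ⟨g, hg⟩), x.1.2⟩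
      invFun := fun x => ⟨⟨(x : U), x.2.2⟩, fun a => Subtype.ext (x.2.1 a a.2)⟩
      left_inv := fun x => rfl
      right_inv := fun x => rfl }

theorem fixU_card_modEq_top {r : ℕ} [Fact r.Prime] {Z : Subgroup (MulAut U)} (hZ : IsPGroup r Z) :
    Nat.card U ≡ Nat.card (fixU Z) [MOD r] := by
  have h := fixU_card_modEq hZ ⊤ fun _ _ _ _ => Subgroup.mem_top _
  rwa [Subgroup.card_top, inf_top_eq] at h

theorem card_eq_two_pow (hU : Nat.card U = 64) (W : Subgroup U) : ∃ i ≤ 6, Nat.card W = 2 ^ i := by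
  have h : Nat.card W ∣ 2 ^ 6 := by
    rw [show (2 : ℕ) ^ 6 = 64 from rfl, ← hU]; exact Subgroup.card_subgroup_dvd_card W
  exact (Nat.dvd_prime_pow Nat.prime_two).mp h

theorem eq_one_of_card_fix {y : MulAut U} (hU : Nat.card U = 64)
    (h : Nat.card (fixU (Subgroup.zpowers y)) = 64) : y = 1 := by
  have htop := Subgroup.eq_top_of_card_eq _ (h.trans hU.symm)
  exact MulEquiv.ext fun x => mem_fixU_zpowers.mp (htop ▸ Subgroup.mem_top x)

theorem zpowers_pGroup {G : Type*} [Group G] [Finite G] {p : ℕ} {y : G} (hy : orderOf y = p) :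
    IsPGroup p (Subgroup.zpowers y) :=
  IsPGroup.of_card (n := 1) (by rw [Nat.card_zpowers, hy, pow_one])

variable {H : Subgroup (MulAut U)}

/-- An invariant subgroup is trivial or everything. -/
theorem invariant_card (hU : Nat.card U = 64) (hcr : IsCRAut H) (h3 : (Nat.card H).Coprime 3)
    (hfix : ∀ u : U, (∀ h ∈ H, h u = u) → u = 1)
    (h8 : ∀ W : Subgroup U, (∀ h ∈ H, ∀ x ∈ W, h x ∈ W) → Nat.card W ≠ 8)
    (W : Subgroup U) (hW : ∀ h ∈ H, ∀ x ∈ W, h x ∈ W) : Nat.card W = 1 ∨ Nat.card W = 64 := by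
  classical
  have small : ∀ W : Subgroup U, (∀ h ∈ H, ∀ x ∈ W, h x ∈ W) → Nat.card W ≠ 2 ∧ Nat.card W ≠ 4 := by
    intro W hW
    letI : MulAction H W :=
      { smul := fun a x => ⟨(a : MulAut U) x, hW a a.2 x x.2⟩
        one_smul := fun x => Subtype.ext rfl
        mul_smul := fun a b x => Subtype.ext rfl }
    haveI := Fintype.ofFinite W
    have hone : ∀ x : W, x ≠ 1 → ∀ h : H, h • x ≠ 1 := fun x hx h e =>
      hx (MulAction.injective h (e.trans (Subtype.ext (map_one (h : MulAut U))).symm))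
    have hno : ∀ x : W, x ≠ 1 → ∃ h : H, h • x ≠ x := by
      intro x hx
      by_contra hall
      push Not at hall
      exact hx (Subtype.ext (hfix x fun h hh => congrArg Subtype.val (hall ⟨h, hh⟩)))
    have horb : ∀ x : W, Nat.card (MulAction.orbit H x) ∣ Nat.card H := fun x => by
      rw [Nat.card_congr (MulAction.orbitEquivQuotientStabilizer H x)]
      exact Subgroup.index_dvd_card _
    constructor
    · intro h2
      haveI := Finite.one_lt_card_iff_nontrivial.mp (by omega : 1 < Nat.card W)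
      obtain ⟨x, hx⟩ := exists_ne (1 : W)
      obtain ⟨h, hh⟩ := hno x hx
      have h3' : ({1, x, h • x} : Finset W).card = 3 := by
        simp [hx.symm, (hone x hx h).symm, hh.symm]
      have h4 := Finset.card_le_univ ({1, x, h • x} : Finset W)
      rw [h3', ← Nat.card_eq_fintype_card, h2] at h4
      omega
    · intro h4
      haveI := Finite.one_lt_card_iff_nontrivial.mp (by omega : 1 < Nat.card W)
      obtain ⟨x, hx⟩ := exists_ne (1 : W)
      obtain ⟨h, hh⟩ := hno x hx
      have horb3 : ∀ x : W, x ≠ 1 → ∀ a b : H, a • x ≠ x → b • x ≠ x → a • x = b • x := by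
        intro x hx a b ha hb
        by_contra hab
        have hsub : ({x, a • x, b • x} : Finset W) ⊆ Finset.univ.erase 1 := by
          intro z hz
          refine Finset.mem_erase.mpr ⟨?_, Finset.mem_univ _⟩
          simp only [Finset.mem_insert, Finset.mem_singleton] at hz
          rcases hz with rfl | rfl | rfl
          · exact hx
          · exact hone x hx a
          · exact hone x hx b
        have hc : ({x, a • x, b • x} : Finset W).card = 3 := by
          simp [ha.symm, hb.symm, hab]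
        have heq := Finset.eq_of_subset_of_card_le hsub (by
          rw [hc, Finset.card_erase_of_mem (Finset.mem_univ _), Finset.card_univ, ← Nat.card_eq_fintype_card, h4])
        have horb' : MulAction.orbit H x = ↑({x, a • x, b • x} : Finset W) := by
          ext z
          refine ⟨?_, fun hz => ?_⟩
          · rintro ⟨c, rfl⟩
            rw [heq]
            exact Finset.mem_coe.mpr (Finset.mem_erase.mpr ⟨hone x hx c, Finset.mem_univ _⟩)
          · simp only [Finset.coe_insert, Finset.coe_singleton, Set.mem_insert_iff, Set.mem_singleton_iff] at hz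
            rcases hz with rfl | rfl | rfl
            · exact MulAction.mem_orbit_self _
            · exact ⟨a, rfl⟩
            · exact ⟨b, rfl⟩
        have h3' := horb x
        rw [horb', Nat.card_coe_set_eq, Set.ncard_coe_finset, hc] at h3'
        exact absurd (Nat.eq_one_of_dvd_coprimes h3 h3' (dvd_refl 3)) (by norm_num)
      -- the orbit has two points and the third point is fixed
      have hlt : ({1, x, h • x} : Finset W).card < (Finset.univ : Finset W).card := by
        rw [Finset.card_univ, ← Nat.card_eq_fintype_card, h4]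
        exact Finset.card_le_three.trans_lt (by norm_num)
      obtain ⟨z, -, hz⟩ := Finset.exists_mem_notMem_of_card_lt_card hlt
      simp only [Finset.mem_insert, Finset.mem_singleton, not_or] at hz
      obtain ⟨c, hc⟩ := hno z hz.1
      -- where does `z` go
      have hmem : c • z = x ∨ c • z = h • x := by
        by_contra hne
        push Not at hne
        have hc5 : ({1, x, h • x, z, c • z} : Finset W).card = 5 := by
          simp [hx.symm, (hone x hx h).symm, hh.symm, Ne.symm hz.1, Ne.symm hz.2.1, Ne.symm hz.2.2,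
            (hone z hz.1 c).symm, hne.1.symm, hne.2.symm, hc.symm]
        have := Finset.card_le_univ ({1, x, h • x, z, c • z} : Finset W)
        rw [hc5, ← Nat.card_eq_fintype_card, h4] at this
        omega
      obtain ⟨d, hd⟩ : ∃ d : H, d • x = z := by
        rcases hmem with e | e
        · exact ⟨c⁻¹, by rw [← e, inv_smul_smul]⟩
        · exact ⟨c⁻¹ * h, by rw [mul_smul, ← e, inv_smul_smul]⟩
      exact hz.2.2 ((horb3 x hx d h (by rw [hd]; exact hz.2.1) hh).symm.trans hd).symm
  obtain ⟨W', hW', hinf, hsup⟩ := hcr W hW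
  have hprod : Nat.card W * Nat.card W' = 64 := by
    have h1 : W'.relIndex (W ⊔ W') = W'.relIndex W := Subgroup.relIndex_sup_right W W'
    rw [hsup, Subgroup.relIndex_top_right, ← Subgroup.inf_relIndex_right, inf_comm, hinf,
      Subgroup.relIndex_bot_left] at h1
    rw [← h1, mul_comm, Subgroup.card_mul_index, hU]
  obtain ⟨i, hi, hWi⟩ := card_eq_two_pow hU W
  have hW8 := h8 W hW
  have hWs := small W hW
  have hW's := small W' hW'
  rw [hWi] at hprod hW8 hWs ⊢
  interval_cases i <;> omega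

/-- There is a normal seven-subgroup without fixed points. -/
theorem exists_seven (hU : Nat.card U = 64) (hcr : IsCRAut H) (hs : Group.IsSolvable H)
    (h3 : (Nat.card H).Coprime 3) (hfix : ∀ u : U, (∀ h ∈ H, h u = u) → u = 1)
    (h8 : ∀ W : Subgroup U, (∀ h ∈ H, ∀ x ∈ W, h x ∈ W) → Nat.card W ≠ 8) (hne : H ≠ ⊥) :
    ∃ R : Subgroup (MulAut U), R ≤ H ∧ (∀ h ∈ H, ∀ x ∈ R, h * x * h⁻¹ ∈ R) ∧ IsPGroup 7 R ∧
      fixU R = ⊥ ∧ R ≠ ⊥ ∧ ∀ x ∈ R, ∀ y ∈ R, x * y = y * x := by
  classical
  haveI := hs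
  haveI : Nontrivial H := (Subgroup.nontrivial_iff_ne_bot H).mpr hne
  obtain ⟨N, ⟨hN, hN1⟩, hmin⟩ := Set.Finite.exists_minimalFor id
    {M : Subgroup H | M.Normal ∧ M ≠ ⊥} (Set.toFinite _) ⟨⊤, inferInstance, top_ne_bot⟩
  haveI := hN
  have hNc := commutative_of_minimal N hN1 fun M hM hle => by
    by_cases h : M = ⊥
    · exact Or.inl h
    · exact Or.inr (le_antisymm hle (hmin ⟨hM, h⟩ hle))
  obtain ⟨r, hr, hrd⟩ := Nat.exists_prime_and_dvd (show Nat.card N ≠ 1 from fun e => hN1 (Subgroup.card_eq_one.mp e))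
  haveI := Fact.mk hr
  let Om : Subgroup H :=
    { carrier := {x | x ∈ N ∧ x ^ r = 1}
      one_mem' := ⟨one_mem _, one_pow _⟩
      mul_mem' := fun {a b} ha hb => ⟨mul_mem ha.1 hb.1, by
        rw [(show Commute a b from hNc a ha.1 b hb.1).mul_pow, ha.2, hb.2, one_mul]⟩
      inv_mem' := fun {a} ha => ⟨inv_mem ha.1, by rw [inv_pow, ha.2, inv_one]⟩ }
  haveI : Om.Normal := ⟨fun x hx g => ⟨hN.conj_mem x hx.1 g, by rw [conj_pow, hx.2, mul_one, mul_inv_cancel]⟩⟩
  have hOm : N ≤ Om := by
    refine hmin (j := Om) ⟨inferInstance, fun e => ?_⟩ (fun x hx => hx.1)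
    obtain ⟨y, hy⟩ := exists_prime_orderOf_dvd_card' r hrd
    have hm : (y : H) ∈ Om := ⟨y.2, by rw [← Subgroup.coe_pow, ← hy, pow_orderOf_eq_one, Subgroup.coe_one]⟩
    rw [e, Subgroup.mem_bot] at hm
    rw [show y = 1 from Subtype.ext hm, orderOf_one] at hy
    exact hr.ne_one hy.symm
  have hNp : IsPGroup r N := fun x => ⟨1, Subtype.ext (by rw [pow_one]; exact (hOm x.2).2)⟩
  let R : Subgroup (MulAut U) := N.map H.subtype
  have hRH : R ≤ H := Subgroup.map_subtype_le N
  have hRn : ∀ h ∈ H, ∀ x ∈ R, h * x * h⁻¹ ∈ R := by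
    rintro h hh _ ⟨x, hx, rfl⟩
    exact ⟨_, hN.conj_mem x hx ⟨h, hh⟩, rfl⟩
  have hRp : IsPGroup r R := hNp.map H.subtype
  have hR1 : R ≠ ⊥ := fun e => hN1 ((Subgroup.map_eq_bot_iff_of_injective _ H.subtype_injective).mp e)
  have hW : Nat.card (fixU R) = 1 := by
    refine (invariant_card hU hcr h3 hfix h8 (fixU R) (fun h hh x hx g hg => ?_)).resolve_right fun e => hR1 ?_
    · have h1 := hx _ (hRn h⁻¹ (inv_mem hh) g hg)
      rw [inv_inv] at h1
      have h2 := congrArg h h1
      simpa only [MulAut.mul_apply, MulAut.apply_inv_self] using h2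
    · refine (Subgroup.eq_bot_iff_forall R).mpr fun g hg => MulEquiv.ext fun x => ?_
      exact (Subgroup.eq_top_of_card_eq _ (e.trans hU.symm)).ge (Subgroup.mem_top x) g hg
  have h63 := fixU_card_modEq_top hRp
  rw [hU, hW] at h63
  have hdvd : r ∣ 63 := (Nat.modEq_iff_dvd' (by norm_num)).mp h63.symm
  have hr3 : r ≠ 3 := fun e => by
    subst e
    exact absurd (Nat.eq_one_of_dvd_coprimes h3 (hrd.trans (Subgroup.card_subgroup_dvd_card N)) (dvd_refl 3))
      (by norm_num)
  have hr7 : r = 7 := by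
    have hd : r ∣ 3 ^ 2 * 7 := hdvd
    rcases hr.dvd_mul.mp hd with h | h
    · exact absurd ((Nat.prime_dvd_prime_iff_eq hr Nat.prime_three).mp (hr.dvd_of_dvd_pow h)) hr3
    · exact (Nat.prime_dvd_prime_iff_eq hr (by norm_num)).mp h
  subst hr7
  refine ⟨R, hRH, hRn, hRp, Subgroup.card_eq_one.mp hW, hR1, ?_⟩
  rintro _ ⟨a, ha, rfl⟩ _ ⟨b, hb, rfl⟩
  exact congrArg Subtype.val (hNc a ha b hb)

/-- There are no elements of order five. -/
theorem no_five (hU : Nat.card U = 64) (hcr : IsCRAut H) (hs : Group.IsSolvable H)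
    (h3 : (Nat.card H).Coprime 3) (hfix : ∀ u : U, (∀ h ∈ H, h u = u) → u = 1)
    (h8 : ∀ W : Subgroup U, (∀ h ∈ H, ∀ x ∈ W, h x ∈ W) → Nat.card W ≠ 8) {y : MulAut U} (hy : y ∈ H) :
    orderOf y ≠ 5 := by
  classical
  intro hy5
  haveI : Fact (Nat.Prime 5) := ⟨Nat.prime_five⟩
  haveI : Fact (Nat.Prime 7) := ⟨by norm_num⟩
  have hne : H ≠ ⊥ := fun e => by
    rw [e, Subgroup.mem_bot] at hy; subst hy; rw [orderOf_one] at hy5; omega
  obtain ⟨R, hRH, hRn, hRp, hRfix, hR1, hRc⟩ := exists_seven hU hcr hs h3 hfix h8 hne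
  let Z := Subgroup.zpowers y
  have hZ : IsPGroup 5 Z := zpowers_pGroup hy5
  -- fixed points of `y`
  have hy1 : y ≠ 1 := fun e => by rw [e, orderOf_one] at hy5; omega
  obtain ⟨i, hi, hWi⟩ := card_eq_two_pow hU (fixU Z)
  have hmod := fixU_card_modEq_top hZ
  have hne64 : Nat.card (fixU Z) ≠ 64 := fun e => hy1 (eq_one_of_card_fix hU e)
  rw [hWi, hU] at hmod
  have hW4 : Nat.card (fixU Z) = 4 := by
    rw [hWi] at hne64 ⊢
    interval_cases i <;> first | rfl | (exact absurd rfl hne64) | (norm_num [Nat.ModEq] at hmod)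
  -- `y` centralises a non-trivial element of `R`
  letI : MulAction Z R :=
    { smul := fun a x => ⟨(a : MulAut U) * x * (a : MulAut U)⁻¹, hRn _ ((Subgroup.zpowers_le.mpr hy) a.2) x x.2⟩
      one_smul := fun x => Subtype.ext (by show (1 : MulAut U) * x * (1 : MulAut U)⁻¹ = x; simp)
      mul_smul := fun a b x => Subtype.ext (by
        show (a : MulAut U) * b * x * ((a : MulAut U) * b)⁻¹ =
          (a : MulAut U) * ((b : MulAut U) * x * (b : MulAut U)⁻¹) * (a : MulAut U)⁻¹
        group) }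
  obtain ⟨j, hj⟩ := IsPGroup.iff_card.mp hRp
  have hj0 : j ≠ 0 := fun e => hR1 (by rw [e, pow_zero] at hj; exact Subgroup.card_eq_one.mp hj)
  have hj4 : j < 4 := by
    have hd := OddPair.card_dvd_GL (r := 2) hcr 6 (by rw [hU]; rfl)
    have hd2 : 7 ^ j ∣ ∏ i : Fin 6, (2 ^ 6 - 2 ^ (i : ℕ)) :=
      hj ▸ (Subgroup.card_dvd_of_le hRH).trans hd
    by_contra hlt
    push Not at hlt
    have h7 := (pow_dvd_pow 7 hlt).trans hd2
    simp only [Fin.prod_univ_six, Fin.val_zero] at h7
    norm_num at h7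
  obtain ⟨z, hzfix, hz1⟩ : ∃ z : R, (∀ a : Z, a • z = z) ∧ z ≠ 1 := by
    have hm := hZ.card_modEq_card_fixedPoints R
    have h1 : ((1 : R)) ∈ MulAction.fixedPoints Z R := fun a => Subtype.ext (by
      show (a : MulAut U) * 1 * (a : MulAut U)⁻¹ = 1; simp)
    by_contra hno
    push Not at hno
    have hc : Nat.card (MulAction.fixedPoints Z R) = 1 := by
      rw [Nat.card_eq_one_iff_unique]
      exact ⟨⟨fun a b => Subtype.ext ((hno _ a.2).trans (hno _ b.2).symm)⟩, ⟨⟨1, h1⟩⟩⟩
    rw [hj, hc] at hm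
    interval_cases j <;> first | omega | (norm_num [Nat.ModEq] at hm)
  have hyz : y * (z : MulAut U) = z * y :=
    mul_inv_eq_iff_eq_mul.mp (congrArg Subtype.val (hzfix ⟨y, Subgroup.mem_zpowers y⟩))
  let Q := Subgroup.zpowers (z : MulAut U)
  have hz7 : IsPGroup 7 Q := hRp.to_le (Subgroup.zpowers_le.mpr z.2)
  have hQinv : ∀ x ∈ fixU Z, (z : MulAut U) x ∈ fixU Z := fun x hx => by
    refine mem_fixU_zpowers.mpr ?_
    rw [← MulAut.mul_apply, hyz, MulAut.mul_apply, mem_fixU_zpowers.mp hx]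
  have hm4 := fixU_card_modEq hz7 (fixU Z) (fun g hg x hx => by
    obtain ⟨n, rfl⟩ := (isOfFinOrder_of_finite (z : MulAut U)).mem_powers_iff_mem_zpowers.mpr hg
    have : ∀ (n : ℕ) x, x ∈ fixU Z → ((z : MulAut U) ^ n) x ∈ fixU Z := fun n => by
      induction n with
      | zero => exact fun x hx => hx
      | succ n ih => exact fun x hx => by rw [pow_succ, MulAut.mul_apply]; exact ih _ (hQinv x hx)
    exact this n x hx)
  rw [hW4] at hm4
  have hle : fixU Z ≤ fixU Q := by
    have h1 : Nat.card (fixU Q ⊓ fixU Z : Subgroup U) ≤ 4 := hW4 ▸ Subgroup.card_le_of_le inf_le_right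
    have h2 : Nat.card (fixU Q ⊓ fixU Z : Subgroup U) = 4 := by
      have h0 : 0 < Nat.card (fixU Q ⊓ fixU Z : Subgroup U) := Nat.card_pos
      unfold Nat.ModEq at hm4
      omega
    have := Subgroup.eq_of_le_of_card_ge (inf_le_right : fixU Q ⊓ fixU Z ≤ fixU Z) (by rw [h2, hW4])
    exact this ▸ inf_le_left
  obtain ⟨l, hl, hWl⟩ := card_eq_two_pow hU (fixU Q)
  have hl4 : 4 ≤ 2 ^ l := hWl ▸ hW4 ▸ Subgroup.card_le_of_le hle
  have hm7 := fixU_card_modEq_top hz7
  rw [hU, hWl] at hm7
  have hl64 : (2 : ℕ) ^ l ≠ 64 := fun e => hz1 (Subtype.ext (eq_one_of_card_fix hU (hWl.trans e)))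
  have hl3 : 2 ^ l = 8 := by
    interval_cases l <;> first | rfl | omega | (norm_num [Nat.ModEq] at hm7)
  have hm5 := fixU_card_modEq hZ (fixU Q) (fun g hg x hx => by
    refine mem_fixU_zpowers.mpr ?_
    have hgz : g * (z : MulAut U) = z * g := by
      obtain ⟨n, rfl⟩ := hg
      exact ((show Commute y (z : MulAut U) from hyz).zpow_left n).eq
    rw [← MulAut.mul_apply, ← hgz, MulAut.mul_apply, mem_fixU_zpowers.mp hx])
  rw [hWl, hl3, inf_eq_left.mpr hle, hW4] at hm5
  norm_num [Nat.ModEq] at hm5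

/-- The theorem. -/
theorem aut_sixty_four (hU : Nat.card U = 64) (hcr : IsCRAut H) (hs : Group.IsSolvable H)
    (h3 : (Nat.card H).Coprime 3) (hfix : ∀ u : U, (∀ h ∈ H, h u = u) → u = 1)
    (h8 : ∀ W : Subgroup U, (∀ h ∈ H, ∀ x ∈ W, h x ∈ W) → Nat.card W ≠ 8) {a : MulAut U} (ha : a ∈ H)
    (hsmall : 16 ≤ Nat.card (fixU (Subgroup.zpowers a))) : a = 1 := by
  classical
  by_contra ha1
  -- a power of prime order with many fixed points
  obtain ⟨p, hp, hpd⟩ := Nat.exists_prime_and_dvd (fun e => ha1 (orderOf_eq_one_iff.mp e) : orderOf a ≠ 1)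
  haveI := Fact.mk hp
  have hp3 : ∀ {y : MulAut U} {q : ℕ}, y ∈ H → q ∣ orderOf y → q ≠ 3 := fun {y q} hy hq e => by
    subst e
    have : orderOf y ∣ Nat.card H := Subgroup.orderOf_dvd_natCard _ hy
    exact absurd (Nat.eq_one_of_dvd_coprimes h3 (hq.trans this) (dvd_refl 3)) (by norm_num)
  set t := a ^ (orderOf a / p) with ht
  have htord : orderOf t = p := by
    rw [ht, orderOf_pow_orderOf_div (orderOf_pos a).ne' hpd]
  have htH : t ∈ H := pow_mem ha _
  have ht1 : t ≠ 1 := fun e => hp.ne_one (by rw [← htord, e, orderOf_one])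
  have htfix : 16 ≤ Nat.card (fixU (Subgroup.zpowers t)) :=
    hsmall.trans (Subgroup.card_le_of_le fun x hx g hg =>
      hx g ((Subgroup.zpowers_le.mpr (pow_mem (Subgroup.mem_zpowers a) _)) hg))
  obtain ⟨i, hi, hfi⟩ := card_eq_two_pow hU (fixU (Subgroup.zpowers t))
  have hi64 : Nat.card (fixU (Subgroup.zpowers t)) ≠ 64 := fun e => ht1 (eq_one_of_card_fix hU e)
  have hmod := fixU_card_modEq_top (zpowers_pGroup htord)
  rw [hU, hfi] at hmod
  rw [hfi] at hi64 htfix
  have hp2 : p = 2 := by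
    have hd := (Nat.modEq_iff_dvd' (show 2 ^ i ≤ 64 from (Nat.pow_le_pow_right (by norm_num) hi).trans (by norm_num))).mp hmod.symm
    by_contra hne
    have hp3' := hp3 ha hpd
    interval_cases i <;> first | omega | norm_num at hd
    · exact hp3' ((Nat.prime_dvd_prime_iff_eq hp Nat.prime_three).mp
        ((hp.dvd_mul.mp (show p ∣ 2 ^ 4 * 3 from hd)).resolve_left fun h =>
          hne ((Nat.prime_dvd_prime_iff_eq hp Nat.prime_two).mp (hp.dvd_of_dvd_pow h))))
    · exact hne ((Nat.prime_dvd_prime_iff_eq hp Nat.prime_two).mp (hp.dvd_of_dvd_pow (show p ∣ 2 ^ 5 from hd)))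
  subst hp2
  -- a conjugate with product of non 2-power order
  have ht2 : t * t = 1 := by
    have := pow_orderOf_eq_one t
    rwa [htord, sq] at this
  let tH : H := ⟨t, htH⟩
  have htHord : orderOf tH = 2 := by rw [← Subgroup.orderOf_coe]; exact htord
  obtain ⟨g, hg⟩ : ∃ g : H, ¬ IsPGroup 2 ↥(Subgroup.closure ({tH, g * tH * g⁻¹} : Set H)) := by
    by_contra hall
    push Not at hall
    obtain ⟨N, hN, hNp, htN⟩ := CfsgLib.Involution.baerSuzuki_mem (p := 2) tH hall
    haveI := hN
    haveI : Fact (Nat.Prime 2) := ⟨Nat.prime_two⟩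
    have := OddPair.eq_bot_of_normal_pGroup (r := 2) hcr (IsPGroup.of_card (n := 6) (by rw [hU]; rfl)) N hNp
    rw [this, Subgroup.mem_bot] at htN
    rw [htN, orderOf_one] at htHord
    omega
  set uH := g * tH * g⁻¹ with huH
  have huHord : orderOf uH = 2 := by
    rw [huH, ← htHord]
    exact orderOf_injective (MulAut.conj g).toMonoidHom (MulAut.conj g).injective tH
  obtain ⟨q, hq, hqd, hq2⟩ : ∃ q, q.Prime ∧ q ∣ orderOf (tH * uH) ∧ q ≠ 2 := by
    by_contra hno
    push Not at hno
    refine hg fun d => ?_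
    have h2pow : ∃ k, orderOf (tH * uH) = 2 ^ k := by
      obtain ⟨k, m, hm, hkm⟩ := Nat.exists_eq_two_pow_mul_odd (orderOf_pos (tH * uH)).ne'
      by_cases hm1 : m = 1
      · exact ⟨k, by rw [hkm, hm1, mul_one]⟩
      obtain ⟨q, hq, hqm⟩ := Nat.exists_prime_and_dvd hm1
      have := hno q hq (hkm ▸ Dvd.dvd.mul_left hqm _)
      subst this
      exact absurd (even_iff_two_dvd.mpr hqm) (Nat.not_even_iff_odd.mpr hm)
    obtain ⟨k, hk⟩ := h2pow
    obtain ⟨j, hj | hj⟩ := CfsgLib.Involution.mem_closure_pair htHord huHord d.2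
    · refine ⟨k, Subtype.ext ?_⟩
      rw [Subgroup.coe_pow, hj, ← zpow_natCast, ← zpow_mul, mul_comm, zpow_mul, zpow_natCast, ← hk,
        pow_orderOf_eq_one, one_zpow, Subgroup.coe_one]
    · refine ⟨1, Subtype.ext ?_⟩
      rw [Subgroup.coe_pow, hj, pow_one, sq, mul_assoc, ← mul_assoc ((tH * uH) ^ j),
        CfsgLib.Involution.zpow_mul_comm htHord huHord, mul_assoc tH, ← zpow_add, neg_add_cancel, zpow_zero,
        mul_one, CfsgLib.Involution.mul_self_of_orderOf_two htHord, Subgroup.coe_one]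
  haveI := Fact.mk hq
  set u : MulAut U := (uH : MulAut U) with hu
  set w : MulAut U := t * u with hw
  have hword : orderOf w = orderOf (tH * uH) := by rw [hw, ← Subgroup.orderOf_coe]; rfl
  set y := w ^ (orderOf w / q) with hy
  have hyord : orderOf y = q := by
    rw [hy, orderOf_pow_orderOf_div (orderOf_pos w).ne' (hword ▸ hqd)]
  have hyH : y ∈ H := pow_mem (mul_mem htH uH.2) _
  have hy1 : y ≠ 1 := fun e => hq.ne_one (by rw [← hyord, e, orderOf_one])
  have huu : u * u = 1 := congrArg Subtype.val (CfsgLib.Involution.mul_self_of_orderOf_two huHord)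
  -- the common fixed points
  set T := fixU (Subgroup.zpowers t) with hT
  set T' := fixU (Subgroup.zpowers u) with hT'
  have hT'card : Nat.card T' = Nat.card T := by
    refine Nat.card_congr (Equiv.subtypeEquiv ((g : MulAut U)⁻¹).toEquiv fun x => ?_)
    show x ∈ T' ↔ (g : MulAut U)⁻¹ x ∈ T
    rw [hT, hT', mem_fixU_zpowers, mem_fixU_zpowers, hu, huH, Subgroup.coe_mul, Subgroup.coe_mul, Subgroup.coe_inv,
      MulAut.mul_apply, MulAut.mul_apply]
    constructor
    · intro h
      have := congrArg (⇑((g : MulAut U)⁻¹)) h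
      rwa [MulAut.inv_apply_self] at this
    · intro h
      rw [h, MulAut.apply_inv_self]
  have hinter : 4 ≤ Nat.card (T ⊓ T' : Subgroup U) := by
    have h1 := Subgroup.index_inf_le (H := T) (K := T')
    have e1 := Subgroup.card_mul_index T
    have e2 := Subgroup.card_mul_index T'
    have e3 := Subgroup.card_mul_index (T ⊓ T')
    rw [hfi] at hT'card e1
    rw [hT'card] at e2
    rw [hU] at e1 e2 e3
    have hti : T.index ≤ 4 := by
      interval_cases i <;> omega
    have hti' : T'.index ≤ 4 := by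
      interval_cases i <;> omega
    have := Nat.mul_le_mul hti hti'
    nlinarith
  set Y := fixU (Subgroup.zpowers y) with hY
  have hsub : T ⊓ T' ≤ Y := fun x hx => by
    rw [hY, mem_fixU_zpowers]
    have hwx : w x = x := by
      rw [hw, MulAut.mul_apply, mem_fixU_zpowers.mp hx.2, mem_fixU_zpowers.mp hx.1]
    exact mem_fixU_zpowers.mpr hwx y (pow_mem (Subgroup.mem_zpowers w) _)
  obtain ⟨j, hj, hYj⟩ := card_eq_two_pow hU Y
  have hjlo : 4 ≤ 2 ^ j := hYj ▸ hinter.trans (Subgroup.card_le_of_le hsub)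
  have hj64 : (2 : ℕ) ^ j ≠ 64 := fun e => hy1 (eq_one_of_card_fix hU (hYj.trans e))
  have hmy := fixU_card_modEq_top (zpowers_pGroup hyord)
  rw [hU, hYj] at hmy
  have hq3 : q ≠ 3 := hp3 (mul_mem htH uH.2) (hword ▸ hqd)
  have hq5 : q ≠ 5 := fun e => no_five hU hcr hs h3 hfix h8 hyH (hyord.trans e)
  have hj3 : 2 ^ j = 8 ∧ q = 7 := by
    have hd := (Nat.modEq_iff_dvd' (show 2 ^ j ≤ 64 from (Nat.pow_le_pow_right (by norm_num) hj).trans (by norm_num))).mp hmy.symm
    have key : ∀ (n m : ℕ), q ∣ 2 ^ n * m → q ∣ m := fun n m h =>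
      (hq.dvd_mul.mp h).resolve_left fun h' =>
        hq2 ((Nat.prime_dvd_prime_iff_eq hq Nat.prime_two).mp (hq.dvd_of_dvd_pow h'))
    interval_cases j <;> first | omega | norm_num at hd ⊢
    · rcases (Nat.Prime.dvd_mul hq (m := 3) (n := 5)).mp (key 2 15 hd) with h | h
      · exact hq3 ((Nat.prime_dvd_prime_iff_eq hq Nat.prime_three).mp h)
      · exact hq5 ((Nat.prime_dvd_prime_iff_eq hq Nat.prime_five).mp h)
    · exact (Nat.prime_dvd_prime_iff_eq hq (by norm_num)).mp (key 3 7 hd)
    · exact hq3 ((Nat.prime_dvd_prime_iff_eq hq Nat.prime_three).mp (key 4 3 hd))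
    · exact hq.ne_one (Nat.dvd_one.mp (key 5 1 hd))
  obtain ⟨hj8, rfl⟩ := hj3
  have hY8 : Nat.card Y = 8 := hYj.trans hj8
  -- the involution inverts `y`
  have hinv : t * y * t⁻¹ = y⁻¹ := by
    rw [hy, ← conj_pow, ← inv_pow w]
    congr 1
    rw [hw, mul_inv_rev, ← mul_assoc t t, ht2, one_mul, inv_eq_of_mul_eq_one_right ht2, inv_eq_of_mul_eq_one_right huu]
  have hsq : ∀ x : U, x * x = 1 := fun x => by
    have := OddPair.pow_eq_one (r := 2) hcr (IsPGroup.of_card (n := 6) (by rw [hU]; rfl)) x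
    rwa [sq] at this
  have hyt : ∀ (n : ℕ) (x : U), t ((y ^ n) x) = ((y⁻¹) ^ n) (t x) := fun n x => by
    rw [← MulAut.mul_apply, ← MulAut.mul_apply, ← hinv, conj_pow, inv_mul_cancel_right]
  have hYt : ∀ x ∈ Y, t x ∈ Y := fun x hx => by
    rw [hY, mem_fixU_zpowers] at hx ⊢
    have h1 := hyt 1 x
    rw [pow_one, pow_one, hx] at h1
    exact (congrArg y h1).trans (MulAut.apply_inv_self _ _ _)
  -- the points moved into `Y` by the involution
  let P : Subgroup U :=
    { carrier := {x | t x * x ∈ Y}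
      one_mem' := by show t 1 * 1 ∈ Y; rw [map_one, mul_one]; exact one_mem _
      mul_mem' := fun {a b} ha hb => by
        show t (a * b) * (a * b) ∈ Y
        rw [map_mul, mul_mul_mul_comm]
        exact mul_mem ha hb
      inv_mem' := fun {a} ha => by
        show t a⁻¹ * a⁻¹ ∈ Y
        rw [map_inv, ← mul_inv, mul_comm]
        refine inv_mem ?_
        rw [mul_comm]
        exact ha }
  -- translates of a moved point
  have hy7 : y ^ 7 = 1 := hyord ▸ pow_orderOf_eq_one y
  have hsep : ∀ (x : U), x ∉ Y → ∀ k < 7, (y ^ k) x * x ∈ Y → k = 0 := by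
    intro x hx k hk he
    by_contra hk0
    obtain ⟨e, hedef⟩ : ∃ e, e = (y ^ k) x * x := ⟨_, rfl⟩
    rw [← hedef] at he
    have hye : ∀ n : ℕ, (y ^ n) e = e := fun n => he _ (pow_mem (Subgroup.mem_zpowers y) n)
    have h1 : (y ^ k) x = e * x := by rw [hedef, mul_assoc, hsq, mul_one]
    have hit : ∀ n : ℕ, ((y ^ k) ^ n) x = e ^ n * x := by
      intro n
      induction n with
      | zero => simp
      | succ n ih => rw [pow_succ', MulAut.mul_apply, ih, map_mul, map_pow, hye, h1, pow_succ, mul_assoc]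
    have h7 := hit 7
    rw [← pow_mul, mul_comm, pow_mul, hy7, one_pow, MulAut.one_apply, right_eq_mul] at h7
    have he1 : e = 1 := by
      have : e ^ 2 = 1 := by rw [sq, hsq]
      calc e = e ^ 7 * ((e ^ 2) ^ 3)⁻¹ := by group
        _ = 1 := by rw [h7, this, one_pow, inv_one, one_mul]
    rw [he1, one_mul] at h1
    refine hx (mem_fixU_zpowers.mpr ?_)
    obtain ⟨m, hm⟩ := exists_pow_eq_self_of_coprime (x := y) (n := k)
      (by rw [hyord]; exact ((Nat.Prime.coprime_iff_not_dvd (by norm_num)).mpr (fun h => by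
        have := Nat.le_of_dvd (Nat.pos_of_ne_zero hk0) h; omega)).symm)
    have hfixm : ∀ m : ℕ, ((y ^ k) ^ m) x = x := fun m => by rw [hit, he1, one_pow, one_mul]
    have := hfixm m
    rwa [hm] at this
  have hPsmall : Nat.card P ≤ 16 := by
    by_cases hPY : P ≤ Y
    · exact (Subgroup.card_le_of_le hPY).trans (by rw [hY8]; norm_num)
    obtain ⟨x0, hx0P, hx0⟩ := SetLike.not_le_iff_exists.mp hPY
    have hcover : ∀ x : U, x ∉ Y → ∃ (k : ℕ) (c : U), k < 7 ∧ c ∈ Y ∧ x = (y ^ k) x0 * c := by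
      intro x hx
      let f : Fin 7 × Y → {z : U // z ∉ Y} := fun q => ⟨(y ^ (q.1 : ℕ)) x0 * q.2, fun hm => by
        have h1 : (y ^ (q.1 : ℕ)) x0 ∈ Y := by
          have := mul_mem hm (inv_mem q.2.2); rwa [mul_inv_cancel_right] at this
        have h2 := h1 _ (inv_mem (pow_mem (Subgroup.mem_zpowers y) (q.1 : ℕ)))
        rw [MulAut.inv_apply_self] at h2
        exact hx0 (h2 ▸ h1)⟩
      have hfinj : Function.Injective f := by
        rintro ⟨k, c⟩ ⟨l, d⟩ e
        have e' : (y ^ (k : ℕ)) x0 * c = (y ^ (l : ℕ)) x0 * d := congrArg Subtype.val e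
        obtain rfl : k = l := by
          wlog hkl : (k : ℕ) ≤ l generalizing k l c d
          · exact (this l d k c e.symm e'.symm (by omega)).symm
          have hmem : (y ^ ((l : ℕ) - k)) x0 * x0 ∈ Y := by
            have hcd : (y ^ (l : ℕ)) x0 = (y ^ (k : ℕ)) x0 * ((c : U) * (d : U)⁻¹) := by
              rw [← mul_assoc, e', mul_inv_cancel_right]
            have h := congrArg (⇑((y ^ (k : ℕ))⁻¹)) hcd
            rw [map_mul, MulAut.inv_apply_self, ← MulAut.mul_apply, show (y ^ (k : ℕ))⁻¹ * y ^ (l : ℕ) = y ^ ((l : ℕ) - k) by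
              rw [inv_mul_eq_iff_eq_mul, ← pow_add, Nat.add_sub_cancel' hkl]] at h
            rw [h, mul_right_comm, hsq, one_mul]
            intro g hg
            have hfix := mul_mem c.2 (inv_mem d.2)
            have h3 := hfix _ (inv_mem (pow_mem (Subgroup.mem_zpowers y) (k : ℕ)))
            rw [h3]; exact hfix g hg
          have := hsep x0 hx0 _ (by have := l.2; omega) hmem
          exact Fin.ext (by omega)
        exact Prod.ext rfl (Subtype.ext (mul_left_cancel e'))
      have hcards : Nat.card {z : U // z ∉ Y} = Nat.card (Fin 7 × Y) := by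
        rw [Nat.card_prod, Nat.card_fin, hY8]
        haveI := Fintype.ofFinite U
        have h := Fintype.card_subtype_compl (fun z : U => z ∈ Y)
        rw [← Nat.card_eq_fintype_card, ← Nat.card_eq_fintype_card, ← Nat.card_eq_fintype_card, hU] at h
        rw [h]
        have : Nat.card {z : U // z ∈ Y} = 8 := hY8
        omega
      have hsurj : Function.Surjective f := (hfinj.bijective_of_nat_card_le hcards.le).2
      obtain ⟨⟨k, c⟩, hkc⟩ := hsurj ⟨x, hx⟩
      exact ⟨k, c, k.2, c.2, (congrArg Subtype.val hkc).symm⟩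
    have htwo : ∀ x ∈ P, x ∈ Y ∨ x * x0 ∈ Y := by
      intro x hx
      by_cases hxY : x ∈ Y
      · exact Or.inl hxY
      right
      obtain ⟨k, c, hk, hc, rfl⟩ := hcover x hxY
      have h1 : t ((y ^ k) x0 * c) * ((y ^ k) x0 * c) ∈ Y := hx
      rw [map_mul, hyt] at h1
      have h2 : ((y⁻¹) ^ k) (t x0) = ((y⁻¹) ^ k) x0 * (t x0 * x0) := by
        have h := (hx0P : t x0 * x0 ∈ Y) _ (pow_mem (inv_mem (Subgroup.mem_zpowers y)) k)
        rw [map_mul] at h
        calc ((y⁻¹) ^ k) (t x0) = ((y⁻¹) ^ k) (t x0) * (((y⁻¹) ^ k) x0 * ((y⁻¹) ^ k) x0) := by rw [hsq, mul_one]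
          _ = _ := by rw [← mul_assoc, h, mul_comm]
      rw [h2] at h1
      have h3 : ((y⁻¹) ^ k) x0 * (y ^ k) x0 ∈ Y := by
        have h4 := mul_mem h1 (inv_mem (mul_mem (mul_mem (hx0P : t x0 * x0 ∈ Y) (hYt c hc)) hc))
        convert h4 using 1
        rw [eq_mul_inv_iff_mul_eq]
        ac_rfl
      have h5 := (h3 : ((y⁻¹) ^ k) x0 * (y ^ k) x0 ∈ Y)
      have h6 : (y ^ (k + k)) x0 * x0 ∈ Y := by
        have h7 := h5 _ (pow_mem (Subgroup.mem_zpowers y) k)
        rw [← h7] at h5
        rw [map_mul, ← MulAut.mul_apply, ← MulAut.mul_apply, inv_pow, mul_inv_cancel, MulAut.one_apply, ← pow_add,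
          mul_comm] at h5
        exact h5
      have h8 : (k + k) % 7 = 0 := hsep x0 hx0 _ (Nat.mod_lt _ (by norm_num)) (by
        rwa [← hyord, pow_mod_orderOf])
      obtain rfl : k = 0 := by omega
      rw [pow_zero, MulAut.one_apply, mul_right_comm, hsq, one_mul]
      exact hc
    haveI := Fintype.ofFinite U
    let f : P → Y ⊕ Y := fun x => if h : (x : U) ∈ Y then Sum.inl ⟨x, h⟩ else
      Sum.inr ⟨(x : U) * x0, (htwo x x.2).resolve_left h⟩
    have hfinj : Function.Injective f := by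
      intro a b e
      simp only [f] at e
      split_ifs at e with h1 h2 h2
      · exact Subtype.ext (congrArg (Sum.elim Subtype.val Subtype.val) e)
      · exact Subtype.ext (mul_right_cancel (congrArg (Sum.elim Subtype.val Subtype.val) e))
    have := Nat.card_le_card_of_injective f hfinj
    rwa [Nat.card_sum, hY8] at this
  -- but it is large
  let τ : U →* U :=
    { toFun := fun x => t x * x
      map_one' := by rw [map_one, mul_one]
      map_mul' := fun a b => by rw [map_mul, mul_mul_mul_comm] }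
  have hker : τ.ker = T := by
    ext x
    rw [MonoidHom.mem_ker, hT, mem_fixU_zpowers]
    show t x * x = 1 ↔ t x = x
    rw [mul_eq_one_iff_eq_inv, show x⁻¹ = x from inv_eq_of_mul_eq_one_right (hsq x)]
  have hTP : T ≤ P := fun x hx => by
    show t x * x ∈ Y
    rw [mem_fixU_zpowers.mp hx, hsq]; exact one_mem _
  have hYP : Y ≤ P := fun x hx => mul_mem (hYt x hx) hx
  have hT16 : Nat.card T = 16 ∧ P = T := by
    have h1 := Subgroup.card_le_of_le hTP
    rw [hfi] at h1
    have h2 : Nat.card T = 16 := by rw [hfi]; omega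
    exact ⟨h2, (Subgroup.eq_of_le_of_card_ge hTP (by omega)).symm⟩
  obtain ⟨hT16, hPT⟩ := hT16
  have hYT : Y ≤ T := hPT ▸ hYP
  have hrange : Nat.card τ.range = 4 := by
    rw [← Subgroup.index_ker, hker]
    have := Subgroup.card_mul_index T
    rw [hT16, hU] at this
    omega
  have hrT : τ.range ≤ T := by
    rintro _ ⟨x, rfl⟩
    rw [hT, mem_fixU_zpowers]
    show t (t x * x) = t x * x
    rw [map_mul, ← MulAut.mul_apply, ht2, MulAut.one_apply, mul_comm]
  -- the range meets `Y`
  obtain ⟨_, ⟨⟨x, rfl⟩, hzY⟩, hz1⟩ : ∃ z, z ∈ τ.range ⊓ Y ∧ z ≠ 1 := by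
    refine (Subgroup.bot_or_exists_ne_one _).resolve_left fun e => ?_
    have hsup : τ.range ⊔ Y ≤ T := sup_le hrT hYT
    have hcard : Nat.card ↥(τ.range ⊔ Y) = 32 := by
      have h1 : Y.relIndex (τ.range ⊔ Y) = Y.relIndex τ.range := Subgroup.relIndex_sup_right τ.range Y
      rw [← Subgroup.inf_relIndex_right Y τ.range, inf_comm, e, Subgroup.relIndex_bot_left, hrange] at h1
      have h2 := Subgroup.relIndex_mul_relIndex ⊥ Y (τ.range ⊔ Y) bot_le le_sup_right
      rw [Subgroup.relIndex_bot_left, Subgroup.relIndex_bot_left, hY8, h1] at h2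
      omega
    have := Subgroup.card_le_of_le hsup
    omega
  have hxP : x ∈ P := hzY
  rw [hPT, ← hker] at hxP
  exact hz1 hxP

end CfsgLib.EvenPair.Line
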