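import Cfsg.Agent.EvenPair.Line.Group
import Cfsg.Agent.EvenPair.Line.SixtyFour

/-!
A frame over three elements with quotient of order 64: no element outside the class-two subgroup
moves it by only four cosets of the centre.
-/

set_option autoImplicit false
set_option linter.style.haveILetI false

open scoped commutatorElement

namespace CfsgLib.OddPair.Frame

open CfsgLib.EvenPair

variable {A V : Type} [Group A] [Finite A] [AddCommGroup V] [Finite V] [Nontrivial V] [DistribMulAction A V]
variable (φ : Frame A V) [FaithfulSMul A V]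

theorem line_no_eight [Group.IsSolvable A] (hK : Nat.card φ.K = 3) (W : Subgroup A) (hWn : W.Normal)
    (hCW : φ.C ≤ W) (hWF : W ≤ φ.F) : Nat.card W ≠ 8 * Nat.card φ.C := by
  classical
  intro hcard
  haveI := hWn
  let q := QuotientGroup.mk' φ.C
  have hnab : ¬ ∀ a ∈ W, ∀ b ∈ W, a * b = b * a := fun h => by
    have e := φ.C_max W hWn h hCW
    rw [e] at hcard
    have : 0 < Nat.card φ.C := Nat.card_pos
    omega
  push Not at hnab
  obtain ⟨f, hf, g, hg, hfg⟩ := hnab
  have hfgA : φ.Anti f g := (φ.comm_or_anti hK (hWF hf) (hWF hg)).resolve_left hfg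
  let Z : Subgroup A := W ⊓ Subgroup.centralizer ({f, g} : Set A)
  have memZ : ∀ z, z ∈ Z ↔ z ∈ W ∧ z * f = f * z ∧ z * g = g * z := fun z => by
    simp only [Z, Subgroup.mem_inf, Subgroup.mem_centralizer_iff, Set.mem_insert_iff, Set.mem_singleton_iff,
      forall_eq_or_imp, forall_eq]
    exact and_congr_right fun _ => and_congr eq_comm eq_comm
  -- translates of `Z` cover `W`
  have hcover : ∀ μ ∈ W, ∃ a b : Bool, μ * (if a then g else 1) * (if b then f else 1) ∈ Z := by
    intro μ hμ
    obtain ⟨a, ha⟩ : ∃ a : Bool, f * (μ * (if a then g else 1)) = μ * (if a then g else 1) * f := by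
      rcases φ.comm_or_anti hK (hWF hf) (hWF hμ) with h | h
      · exact ⟨false, by simpa using h⟩
      · exact ⟨true, φ.comm_of_anti_anti h hfgA⟩
    set μ1 := μ * (if a then g else 1)
    have hμ1 : μ1 ∈ W := mul_mem hμ (by cases a <;> simp [hg])
    obtain ⟨b, hb⟩ : ∃ b : Bool, g * (μ1 * (if b then f else 1)) = μ1 * (if b then f else 1) * g := by
      rcases φ.comm_or_anti hK (hWF hg) (hWF hμ1) with h | h
      · exact ⟨false, by simpa using h⟩
      · exact ⟨true, φ.comm_of_anti_anti h hfgA.symm'⟩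
    refine ⟨a, b, (memZ _).mpr ⟨mul_mem hμ1 (by cases b <;> simp [hf]), ?_, hb.symm⟩⟩
    cases b
    · show μ1 * 1 * f = f * (μ1 * 1)
      rw [mul_one]
      exact ha.symm
    · show μ1 * f * f = f * (μ1 * f)
      rw [← mul_assoc f, ← ha]
  have hCZ : φ.C ≤ Z := fun c hc => (memZ c).mpr ⟨hCW hc, φ.comm_C_L hc (φ.F_le (hWF hf)),
    φ.comm_C_L hc (φ.F_le (hWF hg))⟩
  obtain ⟨h, hhZ, hhC⟩ : ∃ h ∈ Z, h ∉ φ.C := by
    by_contra hno
    push Not at hno
    choose a b hab using hcover
    let F' : W → φ.C × Bool × Bool := fun μ => (⟨_, hno _ (hab μ μ.2)⟩, a μ μ.2, b μ μ.2)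
    have hinj : Function.Injective F' := by
      intro μ ν e
      simp only [F', Prod.mk.injEq, Subtype.mk.injEq] at e
      obtain ⟨e1, e2, e3⟩ := e
      rw [e2, e3] at e1
      exact Subtype.ext (mul_right_cancel (mul_right_cancel e1))
    have := Nat.card_le_card_of_injective F' hinj
    rw [Nat.card_prod, Nat.card_prod, Nat.card_eq_fintype_card (α := Bool), Fintype.card_bool, hcard] at this
    have : 0 < Nat.card φ.C := Nat.card_pos
    omega
  obtain ⟨hhW, hhf, hhg⟩ := (memZ h).mp hhZ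
  -- `h` centralises `Z`
  have hhc : ∀ k ∈ Z, k * h = h * k := by
    intro k hk
    by_contra hne
    obtain ⟨hkW, hkf, hkg⟩ := (memZ k).mp hk
    have hkh : φ.Anti k h := (φ.comm_or_anti hK (hWF hkW) (hWF hhW)).resolve_left hne
    -- sixteen cosets
    let cb : Bool → A → A := fun b z => if b then z else 1
    let p : Bool × Bool × Bool × Bool → A := fun e => cb e.1 f * (cb e.2.1 g * (cb e.2.2.1 h * cb e.2.2.2 k))
    have htyp : ∀ {w r : A} (b : Bool), φ.Anti w r → (w * cb b r = cb b r * w ↔ b = false) := by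
      intro w r b h
      cases b
      · simp [cb]
      · simpa [cb] using φ.not_comm_of_anti hK h
    have hcomm : ∀ {w : A} (b : Bool) {r : A}, w * r = r * w → Commute w (cb b r) := by
      intro w b r h
      cases b
      · exact Commute.one_right w
      · exact h
    have hread : ∀ (w r : A) (m1 m2 : A) (b : Bool), φ.Anti w r → Commute w m1 → Commute w m2 →
        (w * (m1 * (cb b r * m2)) = m1 * (cb b r * m2) * w ↔ b = false) := by
      intro w r m1 m2 b hwr h1 h2
      rw [← htyp b hwr]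
      constructor
      · intro e
        have e' : m1 * (w * cb b r) * m2 = m1 * (cb b r * w) * m2 := by
          calc m1 * (w * cb b r) * m2 = w * (m1 * (cb b r * m2)) := by
                rw [← mul_assoc m1 w, ← h1.eq]
                simp only [mul_assoc]
            _ = m1 * (cb b r * m2) * w := e
            _ = m1 * (cb b r * w) * m2 := by simp only [mul_assoc, h2.eq]
        exact mul_left_cancel (mul_right_cancel e')
      · intro e
        exact ((h1.mul_right ((show Commute w (cb b r) from e).mul_right h2))).eq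
    have hpe : ∀ e, (g * p e = p e * g ↔ e.1 = false) ∧ (f * p e = p e * f ↔ e.2.1 = false) ∧
        (k * p e = p e * k ↔ e.2.2.1 = false) ∧ (h * p e = p e * h ↔ e.2.2.2 = false) := by
      intro e
      refine ⟨?_, ?_, ?_, ?_⟩
      · have := hread g f 1 (cb e.2.1 g * (cb e.2.2.1 h * cb e.2.2.2 k)) e.1 hfgA.symm' (Commute.one_right g)
          ((hcomm _ rfl).mul_right ((hcomm _ hhg.symm).mul_right (hcomm _ hkg.symm)))
        simpa [p] using this
      · exact hread f g (cb e.1 f) (cb e.2.2.1 h * cb e.2.2.2 k) e.2.1 hfgA (hcomm _ rfl)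
          ((hcomm _ hhf.symm).mul_right (hcomm _ hkf.symm))
      · have := hread k h (cb e.1 f * cb e.2.1 g) (cb e.2.2.2 k) e.2.2.1 hkh
          ((hcomm _ hkf).mul_right (hcomm _ hkg)) (hcomm _ rfl)
        simpa [p, mul_assoc] using this
      · have := hread h k (cb e.1 f * (cb e.2.1 g * cb e.2.2.1 h)) 1 e.2.2.2 hkh.symm'
          ((hcomm _ hhf).mul_right ((hcomm _ hhg).mul_right (hcomm _ rfl))) (Commute.one_right h)
        simpa [p, mul_assoc] using this
    have hpW : ∀ e, p e ∈ W := fun e => by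
      have : ∀ (b : Bool) (z : A), z ∈ W → cb b z ∈ W := fun b z hz => by cases b <;> simp [cb, hz]
      exact mul_mem (this _ _ hf) (mul_mem (this _ _ hg) (mul_mem (this _ _ hhW) (this _ _ hkW)))
    let F' : (Bool × Bool × Bool × Bool) × φ.C → W := fun ec => ⟨p ec.1 * ec.2, mul_mem (hpW _) (hCW ec.2.2)⟩
    have hinj : Function.Injective F' := by
      rintro ⟨e, c⟩ ⟨e', c'⟩ he
      have h1 : p e * c = p e' * c' := congrArg Subtype.val he
      have hiff : ∀ w ∈ W, (w * p e = p e * w ↔ w * p e' = p e' * w) := by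
        intro w hw
        have hc : ∀ d : φ.C, Commute w (d : A) := fun d => (φ.comm_C_L d.2 (φ.F_le (hWF hw))).symm
        constructor <;> intro hcm
        · have h2 : Commute w (p e' * c') := h1 ▸ (show Commute w (p e) from hcm).mul_right (hc c)
          simpa using (h2.mul_right (hc c').inv_right).eq
        · have h2 : Commute w (p e * c) := h1.symm ▸ (show Commute w (p e') from hcm).mul_right (hc c')
          simpa using (h2.mul_right (hc c).inv_right).eq
      have key : ∀ {b b' : Bool}, (b = false ↔ b' = false) → b = b' := by decide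
      have e1 : e.1 = e'.1 := key ((hpe e).1.symm.trans ((hiff g hg).trans (hpe e').1))
      have e2 : e.2.1 = e'.2.1 := key ((hpe e).2.1.symm.trans ((hiff f hf).trans (hpe e').2.1))
      have e3 : e.2.2.1 = e'.2.2.1 := key ((hpe e).2.2.1.symm.trans ((hiff k hkW).trans (hpe e').2.2.1))
      have e4 : e.2.2.2 = e'.2.2.2 := key ((hpe e).2.2.2.symm.trans ((hiff h hhW).trans (hpe e').2.2.2))
      obtain rfl : e = e' := Prod.ext e1 (Prod.ext e2 (Prod.ext e3 e4))
      exact Prod.ext rfl (Subtype.ext (mul_left_cancel h1))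
    have hle := Nat.card_le_card_of_injective F' hinj
    rw [Nat.card_prod, hcard, Nat.card_eq_fintype_card (α := Bool × Bool × Bool × Bool)] at hle
    simp only [Fintype.card_prod, Fintype.card_bool] at hle
    have : 0 < Nat.card φ.C := Nat.card_pos
    omega
  -- so it is central in `W`
  obtain ⟨W', hW'n, hCW', hW'F, hinf, hsup⟩ := φ.exists_complement W hCW hWF
  refine hhC (φ.center_eq.le ⟨hWF hhW, Subgroup.mem_centralizer_iff.mpr fun μ hμ => ?_⟩)
  have hWc : ∀ μ ∈ W, μ * h = h * μ := by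
    intro μ hμ
    obtain ⟨a, b, hab⟩ := hcover μ hμ
    have hc1 : ∀ (c : Bool) (z : A), z * h = h * z → Commute (if c then z else (1 : A)) h := fun c z hz => by
      cases c
      · exact Commute.one_left h
      · exact hz
    have := ((show Commute _ h from hhc _ hab).mul_left (hc1 b f hhf.symm).inv_left).mul_left (hc1 a g hhg.symm).inv_left
    simpa only [mul_inv_cancel_right] using this.eq
  by_contra hne
  let N : Subgroup A := W ⊓ Subgroup.centralizer (W : Set A)
  have hN : N = φ.C := φ.C_max N inferInstance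
    (fun x hx y hy => Subgroup.mem_centralizer_iff.mp hy.2 x hx.1)
    (le_inf hCW fun c hc => Subgroup.mem_centralizer_iff.mpr fun w hw => (φ.comm_C_L hc (φ.F_le (hWF hw))).symm)
  exact hhC (hN.le ⟨hhW, Subgroup.mem_centralizer_iff.mpr hWc⟩)

/-- The lemma. -/
theorem line_no_siegel [hs : Group.IsSolvable A] (hK : Nat.card φ.K = 3) (hcop : (Nat.card A).Coprime 3)
    (h64 : φ.C.relIndex φ.F = 64) (a : A) (T : Finset A) (hT : T.card ≤ 4)
    (hmove : ∀ f ∈ φ.F, ∃ t ∈ T, t⁻¹ * ⁅a, f⁆ ∈ φ.C) : a ∈ φ.F := by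
  classical
  let q := QuotientGroup.mk' φ.C
  have hq := QuotientGroup.mk'_surjective φ.C
  let U := φ.F.map q
  haveI : U.Normal := Subgroup.Normal.map inferInstance q hq
  haveI : IsMulCommutative U := ⟨⟨fun x y => by
    obtain ⟨_, f, hf, rfl⟩ := x
    obtain ⟨_, g, hg, rfl⟩ := y
    refine Subtype.ext (commutatorElement_eq_one_iff_mul_comm.mp ?_)
    rw [← map_commutatorElement]
    exact (QuotientGroup.eq_one_iff _).mpr (φ.comm_mem f hf g hg)⟩⟩
  letI : CommGroup U := { (inferInstance : Group U) with mul_comm := fun x y => IsMulCommutative.is_comm.comm x y }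
  let θ : A →* MulAut U := (MulAut.conjNormal : A ⧸ φ.C →* MulAut U).comp q
  have hcardU : Nat.card U = 64 := by
    rw [← h64, show U = φ.F.map q from rfl, ← Subgroup.relIndex_ker, QuotientGroup.ker_mk']
  have hθ : ∀ (a : A) (u : U), ((θ a u : U) : A ⧸ φ.C) = q a * u * (q a)⁻¹ := fun a u =>
    MulAut.conjNormal_apply _ u
  have hpre : ∀ W : Subgroup U, (∀ g ∈ θ.range, ∀ x ∈ W, g x ∈ W) →
      ((W.map U.subtype).comap q).Normal ∧ φ.C ≤ (W.map U.subtype).comap q ∧ (W.map U.subtype).comap q ≤ φ.F := by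
    intro W hW
    have hWn : (W.map U.subtype).Normal := by
      constructor
      rintro _ ⟨w, hw, rfl⟩ b
      obtain ⟨b, rfl⟩ := hq b
      exact ⟨θ b w, hW _ ⟨b, rfl⟩ w hw, hθ b w⟩
    refine ⟨Subgroup.Normal.comap hWn q, fun c hc => ?_, fun x hx => ?_⟩
    · show q c ∈ W.map U.subtype
      rw [show q c = 1 from (QuotientGroup.eq_one_iff c).mpr hc]
      exact one_mem _
    · obtain ⟨f, hf, e⟩ := Subgroup.map_subtype_le W hx
      have h1 : f⁻¹ * x ∈ φ.C := QuotientGroup.eq.mp e
      have h2 := mul_mem hf (φ.C_le h1)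
      rwa [mul_inv_cancel_left] at h2
  have hcr : IsCRAut θ.range := by
    intro W hW
    obtain ⟨hWn, hCW, hWF⟩ := hpre W hW
    haveI := hWn
    obtain ⟨W', hW'n, hCW', hW'F, hinf, hsup⟩ := φ.exists_complement _ hCW hWF
    refine ⟨(W'.map q).subgroupOf U, fun g hg x hx => ?_, ?_, ?_⟩
    · obtain ⟨b, rfl⟩ := hg
      rw [Subgroup.mem_subgroupOf] at hx ⊢
      rw [hθ]
      exact (Subgroup.Normal.map hW'n q hq).conj_mem _ hx (q b)
    · rw [eq_bot_iff]
      rintro x ⟨hxW, hxW'⟩
      obtain ⟨y, hy, e⟩ := Subgroup.mem_subgroupOf.mp hxW'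
      have hyC : y ∈ φ.C := hinf ▸ ⟨⟨x, hxW, e.symm⟩, hy⟩
      exact Subgroup.mem_bot.mpr (Subtype.ext (e.symm.trans ((QuotientGroup.eq_one_iff y).mpr hyC)))
    · rw [eq_top_iff]
      rintro ⟨x, f, hf, rfl⟩ -
      rw [← hsup] at hf
      obtain ⟨y, hy, z, hz, rfl⟩ := Subgroup.mem_sup_of_normal_left.mp hf
      have hyU : q y ∈ U := ⟨y, hWF hy, rfl⟩
      have hzU : q z ∈ U := ⟨z, hW'F hz, rfl⟩
      have hyW : (⟨q y, hyU⟩ : U) ∈ W := by
        obtain ⟨w, hw, e⟩ := (show q y ∈ W.map U.subtype from hy)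
        rwa [← show w = ⟨q y, hyU⟩ from Subtype.ext e]
      have key := Subgroup.mul_mem_sup hyW (show (⟨q z, hzU⟩ : U) ∈ (W'.map q).subgroupOf U from ⟨z, hz, rfl⟩)
      convert key using 1
      exact Subtype.ext (map_mul q y z)
  haveI hsr : Group.IsSolvable θ.range := Group.isSolvable_of_surjective θ.rangeRestrict_surjective
  have h3 : (Nat.card θ.range).Coprime 3 := Nat.Coprime.coprime_dvd_left (Subgroup.card_range_dvd θ) hcop
  have hfix : ∀ u : U, (∀ h ∈ θ.range, h u = u) → u = 1 := by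
    intro u hu
    let W : Subgroup U := Subgroup.zpowers u
    obtain ⟨hWn, hCW, hWF⟩ := hpre W fun g hg x hx => by
      obtain ⟨n, rfl⟩ := hx
      show g (u ^ n) ∈ W
      rw [map_zpow, hu g hg]
      exact ⟨n, rfl⟩
    have he := φ.C_max _ hWn (fun x hx y hy => by
      obtain ⟨_, ⟨n, rfl⟩, hn⟩ := hx
      obtain ⟨_, ⟨m, rfl⟩, hm⟩ := hy
      obtain ⟨_, f, hf, rfl⟩ := u
      have h1 : (f ^ n)⁻¹ * x ∈ φ.C := QuotientGroup.eq.mp (by
        show q (f ^ n) = q x
        rw [map_zpow, ← hn]; rfl)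
      have h2 : (f ^ m)⁻¹ * y ∈ φ.C := QuotientGroup.eq.mp (by
        show q (f ^ m) = q y
        rw [map_zpow, ← hm]; rfl)
      rw [← mul_inv_cancel_left (f ^ n) x, ← mul_inv_cancel_left (f ^ m) y]
      generalize (f ^ n)⁻¹ * x = c at h1
      generalize (f ^ m)⁻¹ * y = d at h2
      have hc : Commute c f := φ.comm_C_L h1 (φ.F_le hf)
      have hd : Commute d f := φ.comm_C_L h2 (φ.F_le hf)
      exact (Commute.mul_left (Commute.mul_right ((Commute.refl f).zpow_zpow n m) (hd.zpow_right n).symm)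
        (Commute.mul_right (hc.zpow_right m) (φ.C_comm c h1 d h2))).eq) hCW
    obtain ⟨f, hf, e⟩ := u.2
    have hfC : f ∈ φ.C := he.le ⟨u, Subgroup.mem_zpowers u, e.symm⟩
    exact Subtype.ext (e.symm.trans ((QuotientGroup.eq_one_iff f).mpr hfC))
  have h8 : ∀ W : Subgroup U, (∀ h ∈ θ.range, ∀ x ∈ W, h x ∈ W) → Nat.card W ≠ 8 := by
    intro W hW h
    obtain ⟨hWn, hCW, hWF⟩ := hpre W hW
    refine φ.line_no_eight hK _ hWn hCW hWF ?_
    have h1 : q.ker.relIndex ((W.map U.subtype).comap q) = Nat.card W := by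
      rw [Subgroup.relIndex_ker, Subgroup.map_comap_eq_self_of_surjective hq,
        Subgroup.card_map_of_injective U.subtype_injective]
    rw [QuotientGroup.ker_mk'] at h1
    have h2 := Subgroup.relIndex_mul_relIndex ⊥ φ.C ((W.map U.subtype).comap q) bot_le hCW
    rw [Subgroup.relIndex_bot_left, Subgroup.relIndex_bot_left, h1, h] at h2
    rw [← h2, mul_comm]
  -- the fixed points of `θ a`
  have hsmall : 16 ≤ Nat.card (Line.fixU (Subgroup.zpowers (θ a))) := by
    let τ : U →* U :=
      { toFun := fun u => θ a u * u⁻¹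
        map_one' := by rw [map_one, inv_one, mul_one]
        map_mul' := fun u w => by rw [map_mul, mul_inv, mul_mul_mul_comm] }
    have hker : τ.ker = Line.fixU (Subgroup.zpowers (θ a)) := by
      ext u
      rw [MonoidHom.mem_ker, Line.mem_fixU_zpowers]
      exact mul_inv_eq_one
    have hrange : Nat.card τ.range ≤ 4 := by
      have hsub : (Set.range fun u => ((τ u : U) : A ⧸ φ.C)) ⊆ ↑(T.image q) := by
        rintro _ ⟨u, rfl⟩
        obtain ⟨f, hf, e⟩ := u.2
        obtain ⟨t, ht, htc⟩ := hmove f hf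
        refine Finset.mem_coe.mpr (Finset.mem_image.mpr ⟨t, ht, ?_⟩)
        show q t = ((θ a u : U) : A ⧸ φ.C) * (u : A ⧸ φ.C)⁻¹
        rw [hθ, ← e, ← map_inv, ← map_inv, ← map_mul, ← map_mul, ← map_mul]
        exact (QuotientGroup.eq.mpr htc)
      have h1 : Nat.card τ.range ≤ (T.image q).card := by
        rw [← Nat.card_eq_finsetCard]
        refine Nat.card_le_card_of_injective (fun r => ⟨((r : U) : A ⧸ φ.C), ?_⟩)
          fun r s e => Subtype.ext (Subtype.ext (by simpa only [Subtype.mk.injEq] using e))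
        obtain ⟨u, hu⟩ := r.2
        exact Finset.mem_coe.mp (hsub ⟨u, by simp only [hu]⟩)
      exact h1.trans (Finset.card_image_le.trans hT)
    rw [← hker]
    have := Subgroup.card_mul_index τ.ker
    rw [Subgroup.index_ker, hcardU] at this
    nlinarith
  have hθ1 := Line.aut_sixty_four hcardU hcr hsr h3 hfix h8 ⟨a, rfl⟩ hsmall
  refine φ.mem_F_of_comm (φ.line_mem_L hK a) fun f hf => ?_
  have h1 := hθ a ⟨q f, f, hf, rfl⟩
  rw [hθ1, MulAut.one_apply] at h1
  rw [← QuotientGroup.eq_one_iff]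
  show q ⁅a, f⁆ = 1
  rw [map_commutatorElement, commutatorElement_def, ← h1, mul_inv_cancel]

end CfsgLib.OddPair.Frame
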