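import Mathlib

/-!
The four dimensional module of the extraspecial group of plus type and order 32 over three elements:
a pair of vectors whose stabiliser in the normaliser is a symmetric group of degree three acting
regularly on the six orbits of eigenlines.
-/

set_option autoImplicit false
set_option maxRecDepth 100000
set_option synthInstance.maxHeartbeats 200000
set_option synthInstance.maxSize 5000
set_option maxHeartbeats 800000

namespace CfsgLib.EvenPair.Line

/-- The space. -/
abbrev W : Type := ZMod 3 × ZMod 3 × ZMod 3 × ZMod 3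

/-- Parameters of the thirty-two elements. -/
abbrev E : Type := Bool × Bool × Bool × Bool × Bool

/-- The first diagonal generator. -/
def J1 : W → W := fun u => (u.1, u.2.1, -u.2.2.1, -u.2.2.2)
/-- The second diagonal generator. -/
def J2 : W → W := fun u => (u.1, -u.2.1, u.2.2.1, -u.2.2.2)
/-- The first shift. -/
def S1 : W → W := fun u => (u.2.2.1, u.2.2.2, u.1, u.2.1)
/-- The second shift. -/
def S2 : W → W := fun u => (u.2.1, u.1, u.2.2.2, u.2.2.1)

/-- Apply when the flag is set. -/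
def cnd (b : Bool) (f : W → W) (u : W) : W := if b then f u else u

/-- The action. -/
def ap (e : E) (u : W) : W :=
  cnd e.1 Neg.neg (cnd e.2.1 J1 (cnd e.2.2.1 J2 (cnd e.2.2.2.1 S1 (cnd e.2.2.2.2 S2 u))))

/-- The vector in the free orbit. -/
def v0 : W := (1, 1, 0, 1)

/-- The second vector. -/
def w0 : W := (1, 2, 1, 0)

/-- Multiplication by a scalar. -/
def sm (c : ZMod 3) (u : W) : W := (c * u.1, c * u.2.1, c * u.2.2.1, c * u.2.2.2)

/-- Linear extension of images of the standard basis. -/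
def lin (m : W × W × W × W) (u : W) : W :=
  sm u.1 m.1 + sm u.2.1 m.2.1 + sm u.2.2.1 m.2.2.1 + sm u.2.2.2 m.2.2.2

/-- The images of the standard basis from those of `v0`, `J1 v0`, `J2 v0`, `S1 v0`. -/
def img (a b c : W) : W × W × W × W :=
  (sm 2 v0 + sm 2 b, sm 2 a + b, v0 + sm 2 b + c, sm 2 v0 + a)

/-- The six maps fixing `v0` and `w0`. -/
def sym : Fin 6 → W × W × W × W :=
  ![((1, 0, 0, 0), (0, 1, 0, 0), (0, 0, 1, 0), (0, 0, 0, 1)),
    ((0, 2, 1, 0), (1, 0, 0, 1), (2, 0, 0, 1), (0, 2, 2, 0)),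
    ((0, 1, 0, 1), (2, 0, 2, 0), (0, 1, 0, 2), (2, 0, 1, 0)),
    ((0, 0, 2, 2), (0, 0, 1, 2), (1, 2, 0, 0), (1, 1, 0, 0)),
    ((1, 1, 1, 2), (2, 1, 1, 1), (2, 2, 1, 2), (1, 2, 1, 1)),
    ((1, 2, 2, 1), (1, 1, 2, 2), (1, 1, 1, 1), (2, 1, 2, 1))]

/-- The colour vectors of the three involutions. -/
def col : Fin 6 → Fin 4 → W :=
  ![![v0, (0, 1, 0, 1), (0, 1, 1, 0), (1, 1, 1, 2)],
    ![v0, (0, 1, 0, 1), (0, 1, 1, 0), (1, 1, 1, 2)],
    ![v0, (1, 1, 1, 2), (1, 1, 1, 1), (0, 1, 0, 1)],
    ![v0, (0, 1, 0, 1), (0, 1, 1, 0), (0, 0, 0, 1)],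
    ![v0, v0, v0, v0], ![v0, v0, v0, v0]]

/-- The identity index or an involution. -/
def Adm (i : Fin 6) : Prop := (i : ℕ) < 4

instance : DecidablePred Adm := fun i => inferInstanceAs (Decidable ((i : ℕ) < 4))

/-- The standard basis. -/
def units : List W := [(1, 0, 0, 0), (0, 1, 0, 0), (0, 0, 1, 0), (0, 0, 0, 1)]

/-- The check for one triple of images of the generators. -/
def check3 (a b c : E) : Bool :=
  let m := img (ap a v0) (ap b v0) (ap c v0)
  if units.all (fun u => lin m (J1 u) == ap a (lin m u) && lin m (J2 u) == ap b (lin m u) &&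
      lin m (S1 u) == ap c (lin m u)) then
    units.all (fun u => (lin m)^[12] u == u) &&
      (!(lin m w0 == w0) || (List.finRange 6).any (fun i => sym i == m))
  else true

theorem check_all : ∀ a : E, ap a (ap a v0) = v0 → ∀ b : E, ap b (ap b v0) = v0 →
    ap a (ap b v0) = ap b (ap a v0) → ∀ c : E, ap c (ap c v0) = v0 → ap b (ap c v0) = ap c (ap b v0) →
    ap a (ap c v0) = -ap c (ap a v0) → check3 a b c = true := by
  decide +kernel

theorem v0_free : ∀ e : E, (ap e v0 = v0 ∨ ap e v0 = -v0) → e.2 = (false, false, false, false) := by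
  decide +kernel

theorem free_orbit : ∀ u : W, (∀ e : E, (ap e u = u ∨ ap e u = -u) → e.2 = (false, false, false, false)) →
    ∃ e : E, u = ap e v0 := by
  decide +kernel

theorem sym_zero : ∀ i : Fin 6, sym i = sym 0 ↔ i = 0 := by decide +kernel

theorem sym_cube : ∀ i : Fin 6, Adm i ∨ units.all (fun u => (lin (sym i))^[3] u == u) = true := by decide +kernel

theorem sym_mul : ∀ i j : Fin 6, Adm i → Adm j → i = 0 ∨ j = 0 ∨ i = j ∨
    ∀ k : Fin 6, Adm k → ∃ u ∈ units, lin (sym k) u ≠ lin (sym i) (lin (sym j) u) := by decide +kernel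

theorem col_sep : ∀ h : Fin 6, Adm h → ∀ k : Fin 6, (k = 0 ∨ k = h) → ∀ i j : Fin 4, ∀ e : E,
    ap e (lin (sym k) (col h i)) = col h j → i = j ∧ (i = 2 → h ≠ 0 → k = 0) := by decide +kernel

theorem col_stab : ∀ h : Fin 6, Adm h → ∀ e : E, (ap e (col h 1) = col h 1 ∨ ap e (col h 1) = -col h 1) →
    ap e (col h 2) = col h 2 → e.2 = (false, false, false, false) := by decide +kernel

theorem col_zero : ∀ h : Fin 6, col h 0 = v0 := by decide +kernel

theorem ap_inj : ∀ e e' : E, ap e v0 = ap e' v0 → e = e' := by decide +kernel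

theorem col_ne : ∀ h : Fin 6, ∀ i : Fin 4, col h i ≠ 0 := by decide +kernel

end CfsgLib.EvenPair.Line
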