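import Cfsg.Agent.EvenPair.Line.Group

/-!
Coordinates on the pivot space of two pairs, and the case of at most one pair.
-/

set_option autoImplicit false
set_option linter.style.haveILetI false

open scoped commutatorElement

namespace CfsgLib.OddPair.Frame

open CfsgLib.EvenPair

variable {A V : Type} [Group A] [Finite A] [AddCommGroup V] [Finite V] [Nontrivial V] [DistribMulAction A V]
variable [FaithfulSMul A V] {φ : Frame A V} {M : Subgroup A} {x : V}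

theorem line_smul_nsmul (g : A) (n : ℕ) (y : V) : g • (n • y) = n • (g • y) :=
  map_nsmul (DistribSMul.toAddMonoidHom V g) n y

namespace LineConfig

variable (cf : LineConfig φ M x)

/-- The centraliser of both shifts in `M`. -/
def Zc : Subgroup A := M ⊓ Subgroup.centralizer ({cf.s1, cf.s2} : Set A)

/-- Its centraliser in `F`. -/
def Zp : Subgroup A := φ.F ⊓ Subgroup.centralizer (cf.Zc : Set A)

/-- Coordinates. -/
def Φ (u : Line.W) : V :=
  u.1.val • x + u.2.1.val • (cf.s2 • x) + u.2.2.1.val • (cf.s1 • x) + u.2.2.2.val • (cf.s1 • cf.s2 • x)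

/-- A flag. -/
def cel (b : Bool) (g : A) : A := if b then g else 1

theorem mem_Zc {z : A} : z ∈ cf.Zc ↔ z ∈ M ∧ z * cf.s1 = cf.s1 * z ∧ z * cf.s2 = cf.s2 * z := by
  simp only [Zc, Subgroup.mem_inf, Subgroup.mem_centralizer_iff, Set.mem_insert_iff, Set.mem_singleton_iff,
    forall_eq_or_imp, forall_eq]
  exact and_congr_right fun _ => and_congr eq_comm eq_comm

section

variable (hK : Nat.card φ.K = 3)
include hK

theorem nsmul_add' (a b : ZMod 3) (y : V) : (a + b).val • y = a.val • y + b.val • y := by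
  rw [← add_nsmul]
  conv_rhs => rw [← Nat.mod_add_div (a.val + b.val) 3]
  rw [add_nsmul, mul_comm, mul_nsmul' y, φ.line_nsmul hK, nsmul_zero, add_zero, ZMod.val_add]

theorem nsmul_neg' (a : ZMod 3) (y : V) : (-a).val • y = -(a.val • y) := by
  refine eq_neg_of_add_eq_zero_left ?_
  rw [← nsmul_add' hK, neg_add_cancel, ZMod.val_zero, zero_nsmul]

theorem Φ_add (u w : Line.W) : cf.Φ (u + w) = cf.Φ u + cf.Φ w := by
  simp only [Φ, Prod.fst_add, Prod.snd_add, nsmul_add' hK]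
  abel

theorem Φ_neg (u : Line.W) : cf.Φ (-u) = -cf.Φ u := by
  simp only [Φ, Prod.fst_neg, Prod.snd_neg, nsmul_neg' hK]
  abel

theorem Φ_zero : cf.Φ 0 = 0 := by
  have h := cf.Φ_add hK 0 0
  rw [add_zero] at h
  exact left_eq_add.mp h

/-- Coordinates as a homomorphism. -/
def Φh : Line.W →+ V where
  toFun := cf.Φ
  map_zero' := cf.Φ_zero hK
  map_add' := cf.Φ_add hK

theorem c_smul (u : Line.W) : cf.c • cf.Φ u = cf.Φ (-u) := by rw [cf.cneg, cf.Φ_neg hK]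

theorem s1_smul (u : Line.W) : cf.s1 • cf.Φ u = cf.Φ (Line.S1 u) := by
  have h1 : ∀ y : V, cf.s1 • cf.s1 • y = y := fun y => by rw [← mul_smul, cf.s1s1, one_smul]
  simp only [Φ, Line.S1, smul_add, line_smul_nsmul, h1]
  abel

theorem s2_smul (u : Line.W) : cf.s2 • cf.Φ u = cf.Φ (Line.S2 u) := by
  have h1 : ∀ y : V, cf.s2 • cf.s2 • y = y := fun y => by rw [← mul_smul, cf.s2s2, one_smul]
  have h2 : ∀ y : V, cf.s2 • cf.s1 • y = cf.s1 • cf.s2 • y := fun y => by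
    rw [← mul_smul, ← cf.comms, mul_smul]
  simp only [Φ, Line.S2, smul_add, line_smul_nsmul, h1, h2]
  abel

theorem j1_smul (u : Line.W) : cf.j1 • cf.Φ u = cf.Φ (Line.J1 u) := by
  have h2 : ∀ y : V, cf.j1 • cf.s2 • y = cf.s2 • cf.j1 • y := fun y => by
    rw [← mul_smul, cf.comm12, mul_smul]
  have ha := cf.anti1
  simp only [Φ, Line.J1, smul_add, line_smul_nsmul, h2, cf.j1x, nsmul_neg' hK]
  rw [ha, ha, h2, cf.j1x, smul_neg, smul_neg]

theorem j2_smul (u : Line.W) : cf.j2 • cf.Φ u = cf.Φ (Line.J2 u) := by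
  have h1 : ∀ y : V, cf.j2 • cf.s1 • y = cf.s1 • cf.j2 • y := fun y => by
    rw [← mul_smul, cf.comm21, mul_smul]
  have ha := cf.anti2
  simp only [Φ, Line.J2, smul_add, line_smul_nsmul, h1, cf.j2x, nsmul_neg' hK]
  rw [ha, cf.j2x, smul_neg, smul_neg, smul_neg]

theorem cel_smul {b : Bool} {g : A} {f : Line.W → Line.W} (h : ∀ u, g • cf.Φ u = cf.Φ (f u)) (u : Line.W) :
    cel b g • cf.Φ u = cf.Φ (Line.cnd b f u) := by
  cases b
  · simp [cel, Line.cnd]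
  · simpa [cel, Line.cnd] using h u

/-- The element with given parameters. -/
def el (e : Line.E) : A :=
  cel e.1 cf.c * (cel e.2.1 cf.j1 * (cel e.2.2.1 cf.j2 *
    (cel e.2.2.2.1 cf.s1 * cel e.2.2.2.2 cf.s2)))

theorem el_smul (e : Line.E) (u : Line.W) : cf.el e • cf.Φ u = cf.Φ (Line.ap e u) := by
  simp only [el, mul_smul, Line.ap, cf.cel_smul hK (cf.c_smul hK), cf.cel_smul hK (cf.j1_smul hK),
    cf.cel_smul hK (cf.j2_smul hK), cf.cel_smul hK (cf.s1_smul hK), cf.cel_smul hK (cf.s2_smul hK)]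

theorem Φ_injective (hx : x ≠ 0) : Function.Injective cf.Φ := by
  have key : ∀ u : Line.W, cf.Φ u = 0 → u.1 = 0 := by
    intro u hu
    have h1 : cf.Φ (u + Line.J1 u + Line.J2 (u + Line.J1 u)) = 0 := by
      rw [cf.Φ_add hK, ← cf.j2_smul hK, cf.Φ_add hK, ← cf.j1_smul hK, hu, smul_zero, add_zero, smul_zero, add_zero]
    have h2 : u + Line.J1 u + Line.J2 (u + Line.J1 u) = (u.1, 0, 0, 0) := by
      clear hu h1; revert u; decide
    rw [h2] at h1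
    simp only [Φ, ZMod.val_zero, zero_nsmul, add_zero] at h1
    by_contra hne
    rcases (show u.1 = 1 ∨ u.1 = 2 by revert hne; generalize u.1 = t; revert t; decide) with e | e
    · rw [e, ZMod.val_one, one_nsmul] at h1; exact hx h1
    · rw [e, show (2 : ZMod 3).val = 2 from rfl] at h1
      have h3 := φ.line_nsmul hK x
      rw [succ_nsmul, h1, zero_add] at h3
      exact hx h3
  intro u w h
  have h0 : cf.Φ (u + -w) = 0 := by rw [cf.Φ_add hK, cf.Φ_neg hK, h, add_neg_cancel]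
  have e1 := key _ h0
  have e2 := key (Line.S2 (u + -w)) (by rw [← cf.s2_smul hK, h0, smul_zero])
  have e3 := key (Line.S1 (u + -w)) (by rw [← cf.s1_smul hK, h0, smul_zero])
  have e4 := key (Line.S1 (Line.S2 (u + -w))) (by rw [← cf.s1_smul hK, ← cf.s2_smul hK, h0, smul_zero, smul_zero])
  simp only [Line.S1, Line.S2, Prod.fst_add, Prod.snd_add, Prod.fst_neg, Prod.snd_neg,
    add_neg_eq_zero] at e1 e2 e3 e4
  exact Prod.ext e1 (Prod.ext e2 (Prod.ext e3 e4))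

end

theorem C_le_Zc (hCM : φ.C ≤ M) : φ.C ≤ cf.Zc := fun d hd =>
  cf.mem_Zc.mpr ⟨hCM hd, φ.comm_C_L hd (φ.F_le cf.s1F), φ.comm_C_L hd (φ.F_le cf.s2F)⟩

theorem Zc_le_M : cf.Zc ≤ M := inf_le_left

theorem Zc_le_Zp (hMF : M ≤ φ.F) (hM : φ.F ⊓ Subgroup.centralizer (M : Set A) = M) : cf.Zc ≤ cf.Zp :=
  fun z hz => ⟨hMF hz.1, Subgroup.mem_centralizer_iff.mpr fun y hy =>
    Subgroup.mem_centralizer_iff.mp (hM.ge hz.1).2 y hy.1⟩

theorem mem_Zp_of (hMF : M ≤ φ.F) (hM : φ.F ⊓ Subgroup.centralizer (M : Set A) = M) {g : A}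
    (hg : g = cf.j1 ∨ g = cf.j2 ∨ g = cf.s1 ∨ g = cf.s2) : g ∈ cf.Zp := by
  refine ⟨?_, Subgroup.mem_centralizer_iff.mpr fun z hz => ?_⟩
  · rcases hg with rfl | rfl | rfl | rfl
    · exact hMF cf.j1M
    · exact hMF cf.j2M
    · exact cf.s1F
    · exact cf.s2F
  · rcases hg with rfl | rfl | rfl | rfl
    · exact Subgroup.mem_centralizer_iff.mp (hM.ge cf.j1M).2 z hz.1
    · exact Subgroup.mem_centralizer_iff.mp (hM.ge cf.j2M).2 z hz.1
    · exact (cf.mem_Zc.mp hz).2.1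
    · exact (cf.mem_Zc.mp hz).2.2

theorem el_mem_Zp (hK : Nat.card φ.K = 3) (hCM : φ.C ≤ M) (hMF : M ≤ φ.F)
    (hM : φ.F ⊓ Subgroup.centralizer (M : Set A) = M) (e : Line.E) : cf.el e ∈ cf.Zp := by
  have hc : ∀ (b : Bool) (g : A), g ∈ cf.Zp → cel b g ∈ cf.Zp := fun b g hg => by
    cases b
    · exact one_mem _
    · exact hg
  have hC : cf.c ∈ cf.Zp := cf.Zc_le_Zp hMF hM (cf.C_le_Zc hCM cf.cC)
  have h := fun g hg => cf.mem_Zp_of hMF hM (g := g) hg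
  exact mul_mem (hc _ _ hC) (mul_mem (hc _ _ (h _ (Or.inl rfl))) (mul_mem (hc _ _ (h _ (Or.inr (Or.inl rfl))))
    (mul_mem (hc _ _ (h _ (Or.inr (Or.inr (Or.inl rfl))))) (hc _ _ (h _ (Or.inr (Or.inr (Or.inr rfl))))))))

theorem decomp_M (hK : Nat.card φ.K = 3) (hMF : M ≤ φ.F) {μ : A} (hμ : μ ∈ M) :
    ∃ (z : A) (a b : Bool), z ∈ cf.Zc ∧ μ = z * cel a cf.j1 * cel b cf.j2 := by
  have swap : ∀ {f g : A}, f * g = g * f → g * f = f * g := fun h => h.symm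
  obtain ⟨μ1, b, hμ1, hμ1s, rfl⟩ : ∃ (μ1 : A) (b : Bool), μ1 ∈ M ∧ μ1 * cf.s2 = cf.s2 * μ1 ∧
      μ = μ1 * cel b cf.j2 := by
    rcases φ.comm_or_anti hK cf.s2F (hMF hμ) with h | h
    · exact ⟨μ, false, hμ, swap h, (mul_one μ).symm⟩
    · refine ⟨μ * cf.j2, true, mul_mem hμ cf.j2M, (φ.comm_of_anti_anti h cf.anti2.symm').symm, ?_⟩
      show μ = μ * cf.j2 * cf.j2
      rw [mul_assoc, cf.j2j2, mul_one]
  rcases φ.comm_or_anti hK cf.s1F (hMF hμ1) with h | h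
  · exact ⟨μ1, false, b, cf.mem_Zc.mpr ⟨hμ1, swap h, hμ1s⟩, by simp [cel]⟩
  · refine ⟨μ1 * cf.j1, true, b, cf.mem_Zc.mpr ⟨mul_mem hμ1 cf.j1M, (φ.comm_of_anti_anti h cf.anti1.symm').symm,
      ((show Commute μ1 cf.s2 from hμ1s).mul_left (show Commute cf.j1 cf.s2 from cf.comm12)).eq⟩, ?_⟩
    show μ1 * cel b cf.j2 = μ1 * cf.j1 * cf.j1 * cel b cf.j2
    rw [mul_assoc μ1 cf.j1, cf.j1j1, mul_one]

theorem Zc_smul (hK : Nat.card φ.K = 3) (hx : x ≠ 0) (heig : ∀ z ∈ M, ∃ r : φ.K, z • x = r • x) {z : A}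
    (hz : z ∈ cf.Zc) : ∃ (b : Bool) (r : φ.K), z • x = r • x ∧
      (∀ u, z • cf.Φ u = r • cf.Φ u) ∧ (∀ u, z • cf.Φ u = cf.Φ (Line.cnd b Neg.neg u)) := by
  obtain ⟨hzM, h1, h2⟩ := cf.mem_Zc.mp hz
  obtain ⟨r, hr⟩ := heig z hzM
  have hs : ∀ u, z • cf.Φ u = r • cf.Φ u := by
    intro u
    have e1 : ∀ y : V, z • cf.s1 • y = cf.s1 • z • y := fun y => by rw [← mul_smul, h1, mul_smul]
    have e2 : ∀ y : V, z • cf.s2 • y = cf.s2 • z • y := fun y => by rw [← mul_smul, h2, mul_smul]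
    simp only [Φ, smul_add, line_smul_nsmul, e1, e2, hr, φ.line_smul hK]
    simp only [smul_comm r]
  rcases φ.line_K_cases hK r with rfl | rfl | rfl
  · rw [zero_smul] at hr; exact absurd ((smul_eq_zero_iff_eq z).mp hr) hx
  · exact ⟨false, 1, hr, hs, fun u => by rw [hs, one_smul]; rfl⟩
  · exact ⟨true, -1, hr, hs, fun u => by rw [hs, neg_one_smul, ← cf.Φ_neg hK]; rfl⟩

theorem decomp (hK : Nat.card φ.K = 3) (hMF : M ≤ φ.F) (hM : φ.F ⊓ Subgroup.centralizer (M : Set A) = M)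
    (hx : x ≠ 0) (heig : ∀ z ∈ M, ∃ r : φ.K, z • x = r • x) {π : A} (hπ : π ∈ cf.Zp) :
    ∃ e : Line.E, (∀ u, π • cf.Φ u = cf.Φ (Line.ap e u)) ∧
      (e.2 = (false, false, false, false) → π ∈ cf.Zc) := by
  have hsF := fun g hg => (cf.mem_Zp_of hMF hM (g := g) hg)
  obtain ⟨π1, d, hπ1, hπ1j, rfl⟩ : ∃ (π1 : A) (d : Bool), π1 ∈ cf.Zp ∧ π1 * cf.j2 = cf.j2 * π1 ∧
      π = π1 * cel d cf.s2 := by
    rcases φ.comm_or_anti hK (hMF cf.j2M) hπ.1 with h | h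
    · exact ⟨π, false, hπ, h.symm, (mul_one π).symm⟩
    · refine ⟨π * cf.s2, true, mul_mem hπ (hsF _ (Or.inr (Or.inr (Or.inr rfl)))),
        (φ.comm_of_anti_anti h cf.anti2).symm, ?_⟩
      show π = π * cf.s2 * cf.s2
      rw [mul_assoc, cf.s2s2, mul_one]
  obtain ⟨π2, c, hπ2, hπ2j1, hπ2j, rfl⟩ : ∃ (π2 : A) (c : Bool), π2 ∈ cf.Zp ∧ π2 * cf.j1 = cf.j1 * π2 ∧
      π2 * cf.j2 = cf.j2 * π2 ∧ π1 = π2 * cel c cf.s1 := by
    rcases φ.comm_or_anti hK (hMF cf.j1M) hπ1.1 with h | h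
    · exact ⟨π1, false, hπ1, h.symm, hπ1j, (mul_one π1).symm⟩
    · refine ⟨π1 * cf.s1, true, mul_mem hπ1 (hsF _ (Or.inr (Or.inr (Or.inl rfl)))),
        (φ.comm_of_anti_anti h cf.anti1).symm,
        ((show Commute π1 cf.j2 from hπ1j).mul_left (show Commute cf.j2 cf.s1 from cf.comm21).symm).eq, ?_⟩
      show π1 = π1 * cf.s1 * cf.s1
      rw [mul_assoc, cf.s1s1, mul_one]
  have hπ2M : π2 ∈ M := hM.le ⟨hπ2.1, Subgroup.mem_centralizer_iff.mpr fun μ hμ => by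
    obtain ⟨z, a, b, hz, rfl⟩ := cf.decomp_M hK hMF hμ
    have hc : ∀ (b : Bool) (g : A), π2 * g = g * π2 → Commute π2 (cel b g) := fun b g hg => by
      cases b
      · exact Commute.one_right _
      · exact hg
    exact ((Commute.mul_right (Commute.mul_right
      (show Commute π2 z from (Subgroup.mem_centralizer_iff.mp hπ2.2 z hz).symm) (hc a _ hπ2j1))
      (hc b _ hπ2j)).symm).eq⟩
  obtain ⟨z, a, b, hz, rfl⟩ := cf.decomp_M hK hMF hπ2M
  obtain ⟨sg, r, -, -, hzu⟩ := cf.Zc_smul hK hx heig hz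
  refine ⟨(sg, a, b, c, d), fun u => ?_, fun h => ?_⟩
  · simp only [mul_smul, Line.ap, cf.cel_smul hK (cf.j1_smul hK), cf.cel_smul hK (cf.j2_smul hK),
      cf.cel_smul hK (cf.s1_smul hK), cf.cel_smul hK (cf.s2_smul hK), hzu]
  · simp only [Prod.mk.injEq] at h
    obtain ⟨rfl, rfl, rfl, rfl⟩ := h
    simpa [cel] using hz

theorem free (hK : Nat.card φ.K = 3) (hMF : M ≤ φ.F) (hM : φ.F ⊓ Subgroup.centralizer (M : Set A) = M)
    (hx : x ≠ 0) (heig : ∀ z ∈ M, ∃ r : φ.K, z • x = r • x) {π : A} (hπ : π ∈ cf.Zp) {r : φ.K}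
    (h : π • cf.Φ Line.v0 = r • cf.Φ Line.v0) : π ∈ cf.Zc := by
  obtain ⟨e, he, hz⟩ := cf.decomp hK hMF hM hx heig hπ
  have hv : cf.Φ Line.v0 ≠ 0 := fun h => by
    have := cf.Φ_injective hK hx (h.trans (cf.Φ_zero hK).symm)
    revert this; decide
  rw [he] at h
  refine hz (Line.v0_free e ?_)
  rcases φ.line_K_cases hK r with rfl | rfl | rfl
  · rw [zero_smul, ← he] at h
    exact absurd ((smul_eq_zero_iff_eq _).mp h) hv
  · exact Or.inl (cf.Φ_injective hK hx (h.trans (one_smul _ _)))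
  · rw [neg_one_smul, ← cf.Φ_neg hK] at h
    exact Or.inr (cf.Φ_injective hK hx h)

theorem inBlock_Φ (hK : Nat.card φ.K = 3) (hx : x ≠ 0) (heig : ∀ z ∈ M, ∃ r : φ.K, z • x = r • x) (u : Line.W) :
    φ.InBlock cf.Zc x (cf.Φ u) := fun z hz r hr => by
  obtain ⟨-, r', hr', h, -⟩ := cf.Zc_smul hK hx heig hz
  rw [h u, φ.smul_left_cancel' hx (hr.symm.trans hr')]

theorem exists_coord (hK : Nat.card φ.K = 3) (hMF : M ≤ φ.F) (hM : φ.F ⊓ Subgroup.centralizer (M : Set A) = M)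
    (hx : x ≠ 0) (heig : ∀ z ∈ M, ∃ r : φ.K, z • x = r • x)
    (hdim : ∀ y, φ.InBlock M x y → ∃ c : φ.K, y = c • x) {y : V} (hy : φ.InBlock cf.Zc x y) :
    ∃ u, y = cf.Φ u := by
  have hZL : cf.Zc ≤ φ.L := fun g _ => φ.line_mem_L hK g
  have hsb : ∀ g, (g = cf.j1 ∨ g = cf.j2 ∨ g = cf.s1 ∨ g = cf.s2) → (∀ z ∈ cf.Zc, z * g = g * z) →
      ∀ y, φ.InBlock cf.Zc x y → φ.InBlock cf.Zc x (g • y) := by
    intro g _ hc y hy z hz r hr
    rw [← mul_smul, hc z hz, mul_smul, hy z hz r hr, φ.line_smul hK]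
  have hcM : ∀ g ∈ M, ∀ z ∈ cf.Zc, z * g = g * z := fun g hg z hz =>
    Subgroup.mem_centralizer_iff.mp (hM.ge hg).2 z hz.1
  let P : V → V := fun w => w + cf.j1 • w + cf.j2 • (w + cf.j1 • w)
  have hP : ∀ w, φ.InBlock cf.Zc x w → ∃ u, P w = cf.Φ u := by
    intro w hw
    have h1 := hsb _ (Or.inl rfl) (hcM _ cf.j1M) w hw
    have hPW : φ.InBlock cf.Zc x (P w) :=
      (hw.add h1).add (hsb _ (Or.inr (Or.inl rfl)) (hcM _ cf.j2M) _ (hw.add h1))
    have hj1 : cf.j1 • P w = P w := by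
      have e : ∀ t : V, cf.j1 • cf.j2 • t = cf.j2 • cf.j1 • t := fun t => by rw [← mul_smul, cf.commj, mul_smul]
      have e' : ∀ t : V, cf.j1 • cf.j1 • t = t := fun t => by rw [← mul_smul, cf.j1j1, one_smul]
      simp only [P, smul_add, e, e']
      abel
    have hj2 : cf.j2 • P w = P w := by
      have e' : ∀ t : V, cf.j2 • cf.j2 • t = t := fun t => by rw [← mul_smul, cf.j2j2, one_smul]
      simp only [P, smul_add, e']
      abel
    obtain ⟨k, hk⟩ := hdim (P w) fun μ hμ r hr => by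
      obtain ⟨z, a, b, hz, rfl⟩ := cf.decomp_M hK hMF hμ
      have ha : ∀ (b : Bool) (g : A) (t : V), g • t = t → cel b g • t = t := fun b g t h => by
        cases b
        · exact one_smul _ _
        · exact h
      rw [mul_smul, mul_smul, ha b _ _ cf.j2x, ha a _ _ cf.j1x] at hr
      rw [mul_smul, mul_smul, ha b _ _ hj2, ha a _ _ hj1, hPW z hz r hr]
    rcases φ.line_K_cases hK k with rfl | rfl | rfl
    · exact ⟨0, by rw [hk, zero_smul, cf.Φ_zero hK]⟩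
    · exact ⟨(1, 0, 0, 0), by simp [hk, Φ, ZMod.val_one]⟩
    · refine ⟨-(1, 0, 0, 0), ?_⟩
      rw [hk, cf.Φ_neg hK, neg_one_smul]
      simp [Φ, ZMod.val_one]
  have hs1 : ∀ z ∈ cf.Zc, z * cf.s1 = cf.s1 * z := fun z hz => (cf.mem_Zc.mp hz).2.1
  have hs2 : ∀ z ∈ cf.Zc, z * cf.s2 = cf.s2 * z := fun z hz => (cf.mem_Zc.mp hz).2.2
  have hy2 := hsb _ (Or.inr (Or.inr (Or.inr rfl))) hs2 y hy
  have hy1 := hsb _ (Or.inr (Or.inr (Or.inl rfl))) hs1 y hy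
  have hy12 := hsb _ (Or.inr (Or.inr (Or.inr rfl))) hs2 _ hy1
  obtain ⟨a, ha⟩ := hP y hy
  obtain ⟨b, hb⟩ := hP _ hy2
  obtain ⟨c, hc⟩ := hP _ hy1
  obtain ⟨d, hd⟩ := hP _ hy12
  refine ⟨a + Line.S2 b + Line.S1 c + Line.S1 (Line.S2 d), ?_⟩
  simp only [cf.Φ_add hK, ← cf.s1_smul hK, ← cf.s2_smul hK, ← ha, ← hb, ← hc, ← hd]
  have a1 : ∀ t : V, cf.s1 • cf.j1 • t = -(cf.j1 • cf.s1 • t) := cf.anti1.symm'
  have a2 : ∀ t : V, cf.s2 • cf.j2 • t = -(cf.j2 • cf.s2 • t) := cf.anti2.symm'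
  have b1 : ∀ t : V, cf.s2 • cf.j1 • t = cf.j1 • cf.s2 • t := fun t => by rw [← mul_smul, ← cf.comm12, mul_smul]
  have b2 : ∀ t : V, cf.s1 • cf.j2 • t = cf.j2 • cf.s1 • t := fun t => by rw [← mul_smul, ← cf.comm21, mul_smul]
  have b3 : ∀ t : V, cf.s2 • cf.s2 • t = t := fun t => by rw [← mul_smul, cf.s2s2, one_smul]
  have b4 : ∀ t : V, cf.s1 • cf.s1 • t = t := fun t => by rw [← mul_smul, cf.s1s1, one_smul]
  simp only [P, smul_add, smul_neg, a1, a2, b1, b2, b3, b4]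
  calc y = y + 3 • y := by rw [φ.line_nsmul hK, add_zero]
    _ = _ := by abel

end LineConfig

end CfsgLib.OddPair.Frame
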