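import Cfsg.Agent.EvenPair.Generic
import Cfsg.Agent.EvenPair.Line.Base

/-!
A frame over three elements with a self-centralising subgroup having a one dimensional common
eigenspace: two pairs of anticommuting elements and the four dimensional space they act on.
-/

set_option autoImplicit false
set_option linter.style.haveILetI false

open scoped commutatorElement

namespace CfsgLib.OddPair.Frame

open CfsgLib.EvenPair

variable {A V : Type} [Group A] [Finite A] [AddCommGroup V] [Finite V] [Nontrivial V] [DistribMulAction A V]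
variable (φ : Frame A V)

theorem line_three (hK : Nat.card φ.K = 3) : (3 : φ.K) = 0 := by
  haveI := Fintype.ofFinite φ.K
  have h := FiniteField.cast_card_eq_zero φ.K
  rw [← Nat.card_eq_fintype_card, hK] at h
  exact_mod_cast h

theorem line_nsmul (hK : Nat.card φ.K = 3) (x : V) : 3 • x = 0 := by
  rw [← Nat.cast_smul_eq_nsmul φ.K, Nat.cast_ofNat, φ.line_three hK, zero_smul]

theorem line_neg_ne (hK : Nat.card φ.K = 3) {x : V} (hx : x ≠ 0) : -x ≠ x := by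
  intro h
  have h2 : 2 • x = 0 := by rw [two_nsmul]; exact eq_neg_iff_add_eq_zero.mp h.symm
  have h3 := φ.line_nsmul hK x
  rw [succ_nsmul, h2, zero_add] at h3
  exact hx h3

theorem line_K_cases (hK : Nat.card φ.K = 3) (r : φ.K) : r = 0 ∨ r = 1 ∨ r = -1 := by
  haveI := Fintype.ofFinite φ.K
  by_cases hr : r = 0
  · exact Or.inl hr
  right
  refine sq_eq_one_iff.mp ?_
  have := FiniteField.pow_card_sub_one_eq_one r hr
  rwa [← Nat.card_eq_fintype_card, hK] at this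

variable [FaithfulSMul A V]

theorem line_mem_L (hK : Nat.card φ.K = 3) (g : A) : g ∈ φ.L := by
  refine φ.L_eq_of_conjK fun r => ?_
  rw [← φ.conjKHom_apply]
  rcases φ.line_K_cases hK r with rfl | rfl | rfl
  · rw [map_zero]
  · rw [map_one]
  · rw [map_neg, map_one]

theorem line_smul (hK : Nat.card φ.K = 3) (g : A) (r : φ.K) (x : V) : g • (r • x) = r • (g • x) :=
  φ.L_smul (φ.line_mem_L hK g) r x

theorem line_C_neg (hK : Nat.card φ.K = 3) {c : A} (hc : c ∈ φ.C) (h1 : c ≠ 1) (x : V) : c • x = -x := by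
  rw [← φ.scal_smul c hc]
  rcases φ.line_K_cases hK (φ.scal c hc) with h | h | h
  · exact absurd h (φ.scal_ne_zero c hc)
  · exact absurd (φ.scal_eq_one hc h) h1
  · rw [h, neg_one_smul]

theorem line_C_sq (hK : Nat.card φ.K = 3) {c : A} (hc : c ∈ φ.C) : c * c = 1 :=
  eq_of_smul_eq_smul (α := V) fun x => by
    by_cases h : c = 1
    · rw [h, one_mul]
    · rw [mul_smul, φ.line_C_neg hK hc h, φ.line_C_neg hK hc h, neg_neg, one_smul]

/-- Anticommuting elements. -/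
def Anti (_φ : Frame A V) (f g : A) : Prop := ∀ x : V, f • g • x = -(g • f • x)

theorem comm_or_anti (hK : Nat.card φ.K = 3) {f g : A} (hf : f ∈ φ.F) (hg : g ∈ φ.F) :
    f * g = g * f ∨ φ.Anti f g := by
  by_cases h : ⁅f, g⁆ = 1
  · exact Or.inl (commutatorElement_eq_one_iff_mul_comm.mp h)
  · refine Or.inr fun x => ?_
    rw [← φ.line_C_neg hK (φ.comm_mem f hf g hg) h (g • f • x), ← mul_smul, ← mul_smul, ← mul_smul]
    congr 1
    rw [commutatorElement_def]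
    group

theorem Anti.symm' {f g : A} (h : φ.Anti f g) : φ.Anti g f := fun x => by
  rw [h x, neg_neg]

theorem not_comm_of_anti (hK : Nat.card φ.K = 3) {f g : A} (h : φ.Anti f g) : ¬ f * g = g * f := by
  intro e
  obtain ⟨x, hx⟩ := exists_ne (0 : V)
  have h1 := h x
  rw [← mul_smul, ← mul_smul, e] at h1
  exact φ.line_neg_ne hK (x := (g * f) • x) (fun e' => hx ((smul_eq_zero_iff_eq _).mp e')) h1.symm

theorem anti_mul_comm {f g h : A} (hg : φ.Anti f g) (hh : f * h = h * f) : φ.Anti f (g * h) := fun x => by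
  rw [mul_smul, hg, ← mul_smul f h, hh, mul_smul, ← mul_smul g h]

theorem comm_of_anti_anti {f g h : A} (hg : φ.Anti f g) (hh : φ.Anti f h) :
    f * (g * h) = g * h * f :=
  eq_of_smul_eq_smul (α := V) fun x => by
    rw [mul_smul f, mul_smul g h (x : V), hg, hh, smul_neg, neg_neg, mul_smul _ f, mul_smul g h]

theorem sq_mem_C [Group.IsSolvable A] (hK : Nat.card φ.K = 3) {f : A} (hf : f ∈ φ.F) : f * f ∈ φ.C := by
  refine φ.center_eq.le ⟨mul_mem hf hf, Subgroup.mem_centralizer_iff.mpr fun u hu => ?_⟩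
  rcases φ.comm_or_anti hK hu hf with h | h
  · exact ((show Commute u f from h).mul_right h).eq
  · exact φ.comm_of_anti_anti h h

/-- An element that anticommutes with a given noncentral element. -/
theorem exists_anti (hK : Nat.card φ.K = 3) {j : A} (hj : j ∈ φ.F) (hjC : j ∉ φ.C) :
    ∃ t ∈ φ.F, φ.Anti j t := by
  by_contra h
  push Not at h
  exact hjC (φ.center_eq.le ⟨hj, Subgroup.mem_centralizer_iff.mpr fun f hf =>
    ((φ.comm_or_anti hK hj hf).resolve_right (h f hf)).symm⟩)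

/-- The data: two pairs. -/
structure LineConfig (φ : Frame A V) (M : Subgroup A) (x : V) where
  j1 : A
  j2 : A
  s1 : A
  s2 : A
  c : A
  j1M : j1 ∈ M
  j2M : j2 ∈ M
  s1F : s1 ∈ φ.F
  s2F : s2 ∈ φ.F
  cC : c ∈ φ.C
  j1x : j1 • x = x
  j2x : j2 • x = x
  cneg : ∀ y : V, c • y = -y
  anti1 : φ.Anti j1 s1
  anti2 : φ.Anti j2 s2
  comm12 : j1 * s2 = s2 * j1
  comm21 : j2 * s1 = s1 * j2
  commj : j1 * j2 = j2 * j1
  comms : s1 * s2 = s2 * s1
  j1j1 : j1 * j1 = 1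
  j2j2 : j2 * j2 = 1
  s1s1 : s1 * s1 = 1
  s2s2 : s2 * s2 = 1

/-- An element with a given anticommutation partner can be chosen an involution. -/
theorem exists_anti_involution [Group.IsSolvable A] (hK : Nat.card φ.K = 3) {j s : A} (hs : s ∈ φ.F)
    (hjj : j * j = 1) (h : φ.Anti j s) : ∃ t, (t = s ∨ t = s * j) ∧ φ.Anti j t ∧ t * t = 1 := by
  by_cases h1 : s * s = 1
  · exact ⟨s, Or.inl rfl, h, h1⟩
  refine ⟨s * j, Or.inr rfl, φ.anti_mul_comm h rfl, eq_of_smul_eq_smul (α := V) fun x => ?_⟩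
  rw [mul_smul, mul_smul, mul_smul, h, smul_neg, ← mul_smul j j, hjj, one_smul]
  rw [← mul_smul, φ.line_C_neg hK (φ.sq_mem_C hK hs) h1, neg_neg]

/-- Either the subgroup is small modulo `C` or there are two pairs. -/
theorem exists_line_config [Group.IsSolvable A] (hK : Nat.card φ.K = 3) (M : Subgroup A) (x : V)
    (hCM : φ.C ≤ M) (hMF : M ≤ φ.F) (hM : φ.F ⊓ Subgroup.centralizer (M : Set A) = M) (hx : x ≠ 0)
    (heig : ∀ z ∈ M, ∃ r : φ.K, z • x = r • x) :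
    M ≤ φ.C ∨
    (∃ j s : A, j ∈ M ∧ s ∈ φ.F ∧ j • x = x ∧ φ.Anti j s ∧ j * j = 1 ∧
      ∀ z ∈ M, z * s = s * z → z ∈ φ.C) ∨
    Nonempty (LineConfig φ M x) := by
  have hMc : ∀ a ∈ M, ∀ b ∈ M, a * b = b * a := fun a ha b hb =>
    (Subgroup.mem_centralizer_iff.mp (hM.ge ha).2 b hb).symm
  by_cases hMC : M ≤ φ.C
  · exact Or.inl hMC
  right
  obtain ⟨z1, hz1, hz1C⟩ := SetLike.not_le_iff_exists.mp hMC
  obtain ⟨t1, ht1, ha1⟩ := φ.exists_anti hK (hMF hz1) hz1C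
  obtain ⟨c, hcC, hc1⟩ : ∃ c ∈ φ.C, c ≠ 1 := ⟨⁅z1, t1⁆, φ.comm_mem _ (hMF hz1) _ ht1, fun e =>
    φ.not_comm_of_anti hK ha1 (commutatorElement_eq_one_iff_mul_comm.mp e)⟩
  have hneg := φ.line_C_neg hK hcC hc1
  -- normalise the eigenvalue
  have hfix : ∀ Q : Subgroup A, φ.C ≤ Q → Q ≤ M → ∀ z ∈ Q, z ∉ φ.C → ∃ j ∈ Q, j ∉ φ.C ∧ j • x = x ∧ j * j = 1 := by
    intro Q hCQ hQM z hz hzC
    obtain ⟨j, hjQ, hjC, hjx⟩ : ∃ j ∈ Q, j ∉ φ.C ∧ j • x = x := by
      obtain ⟨r, hr⟩ := heig z (hQM hz)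
      rcases φ.line_K_cases hK r with rfl | rfl | rfl
      · rw [zero_smul] at hr; exact absurd ((smul_eq_zero_iff_eq z).mp hr) hx
      · exact ⟨z, hz, hzC, hr.trans (one_smul _ x)⟩
      · refine ⟨c * z, mul_mem (hCQ hcC) hz, fun e => hzC ?_, ?_⟩
        · have := mul_mem (inv_mem hcC) e
          rwa [inv_mul_cancel_left] at this
        · rw [mul_smul, hr, hneg, neg_one_smul, neg_neg]
    refine ⟨j, hjQ, hjC, hjx, ?_⟩
    by_contra h
    have := φ.line_C_neg hK (φ.sq_mem_C hK (hMF (hQM hjQ))) h x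
    rw [mul_smul, hjx, hjx] at this
    exact φ.line_neg_ne hK hx this.symm
  obtain ⟨j1, hj1, hj1C, hj1x, hj11⟩ := hfix M hCM le_rfl z1 hz1 hz1C
  obtain ⟨u1, hu1, hu1a⟩ := φ.exists_anti hK (hMF hj1) hj1C
  obtain ⟨s1, hs1e, hs1a, hs11⟩ := φ.exists_anti_involution hK hu1 hj11 hu1a
  have hs1 : s1 ∈ φ.F := by
    rcases hs1e with rfl | rfl
    · exact hu1
    · exact mul_mem hu1 (hMF hj1)
  by_cases hsmall : ∀ z ∈ M, z * s1 = s1 * z → z ∈ φ.C
  · exact Or.inl ⟨j1, s1, hj1, hs1, hj1x, hs1a, hj11, hsmall⟩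
  right
  push Not at hsmall
  obtain ⟨z2, hz2, hz2s, hz2C⟩ := hsmall
  obtain ⟨j2, hj2Q, hj2C, hj2x, hj22⟩ := hfix (M ⊓ Subgroup.centralizer ({s1} : Set A))
    (le_inf hCM fun d hd => Subgroup.mem_centralizer_singleton_iff.mpr (φ.comm_C_L hd (φ.F_le hs1))) inf_le_left z2
    ⟨hz2, Subgroup.mem_centralizer_singleton_iff.mpr hz2s⟩ hz2C
  have hj2 : j2 ∈ M := hj2Q.1
  have h21 : j2 * s1 = s1 * j2 := Subgroup.mem_centralizer_singleton_iff.mp hj2Q.2
  obtain ⟨u2, hu2, hu2a⟩ := φ.exists_anti hK (hMF hj2) hj2C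
  obtain ⟨u3, hu3, hu3a, h13⟩ : ∃ u ∈ φ.F, φ.Anti j2 u ∧ j1 * u = u * j1 := by
    rcases φ.comm_or_anti hK (hMF hj1) hu2 with h | h
    · exact ⟨u2, hu2, hu2a, h⟩
    · exact ⟨u2 * s1, mul_mem hu2 hs1, φ.anti_mul_comm hu2a h21, φ.comm_of_anti_anti h hs1a⟩
  have hjj : j1 * j2 = j2 * j1 := hMc j1 hj1 j2 hj2
  obtain ⟨u4, hu4, hu4a, h14, hs14⟩ : ∃ u ∈ φ.F, φ.Anti j2 u ∧ j1 * u = u * j1 ∧ s1 * u = u * s1 := by
    rcases φ.comm_or_anti hK hs1 hu3 with h | h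
    · exact ⟨u3, hu3, hu3a, h13, h⟩
    · refine ⟨u3 * j1, mul_mem hu3 (hMF hj1), φ.anti_mul_comm hu3a hjj.symm, ?_,
        φ.comm_of_anti_anti h hs1a.symm'⟩
      rw [← mul_assoc, h13]
  obtain ⟨s2, hs2e, hs2a, hs22⟩ := φ.exists_anti_involution hK hu4 hj22 hu4a
  obtain ⟨hs2, h12, hss⟩ : s2 ∈ φ.F ∧ j1 * s2 = s2 * j1 ∧ s1 * s2 = s2 * s1 := by
    rcases hs2e with rfl | rfl
    · exact ⟨hu4, h14, hs14⟩
    · refine ⟨mul_mem hu4 (hMF hj2), ?_, ?_⟩
      · rw [← mul_assoc, h14, mul_assoc, hjj, ← mul_assoc]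
      · rw [← mul_assoc, hs14, mul_assoc, ← h21, ← mul_assoc]
  exact ⟨⟨j1, j2, s1, s2, c, hj1, hj2, hs1, hs2, hcC, hj1x, hj2x, hneg, hs1a, hs2a, h12, h21, hjj, hss,
    hj11, hj22, hs11, hs22⟩⟩

end CfsgLib.OddPair.Frame
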