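import Cfsg.Agent.EvenPair.Line.Coord

/-!
The stabiliser of the chosen vectors on the pivot space.
-/

set_option autoImplicit false
set_option linter.style.haveILetI false

open scoped commutatorElement

namespace CfsgLib.OddPair.Frame

open CfsgLib.EvenPair

variable {A V : Type} [Group A] [Finite A] [AddCommGroup V] [Finite V] [Nontrivial V] [DistribMulAction A V]
variable [FaithfulSMul A V] {φ : Frame A V} {M : Subgroup A} {x : V}

theorem sm_eq_nsmul (c : ZMod 3) (w : Line.W) : Line.sm c w = c.val • w := by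
  rcases (show c = 0 ∨ c = 1 ∨ c = 2 by revert c; decide) with rfl | rfl | rfl
  · rw [ZMod.val_zero, zero_nsmul]
    revert w; decide
  · rw [ZMod.val_one, one_nsmul]
    revert w; decide
  · rw [show (2 : ZMod 3).val = 2 from rfl, two_nsmul]
    revert w; decide

theorem lin_units (u : Line.W) :
    Line.lin ((1, 0, 0, 0), (0, 1, 0, 0), (0, 0, 1, 0), (0, 0, 0, 1)) u = u := by
  revert u; decide

theorem lin_ext {m m' : Line.W × Line.W × Line.W × Line.W} (h : ∀ u ∈ Line.units, Line.lin m u = Line.lin m' u) :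
    m = m' := by
  obtain ⟨a, b, c, d⟩ := m
  obtain ⟨a', b', c', d'⟩ := m'
  have e : ∀ a b c d : Line.W, Line.lin (a, b, c, d) (1, 0, 0, 0) = a ∧ Line.lin (a, b, c, d) (0, 1, 0, 0) = b ∧
      Line.lin (a, b, c, d) (0, 0, 1, 0) = c ∧ Line.lin (a, b, c, d) (0, 0, 0, 1) = d := fun a b c d => by
    simp [Line.lin, sm_eq_nsmul, ZMod.val_one]
  have h1 := h (1, 0, 0, 0) (by decide)
  have h2 := h (0, 1, 0, 0) (by decide)
  have h3 := h (0, 0, 1, 0) (by decide)
  have h4 := h (0, 0, 0, 1) (by decide)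
  rw [(e a b c d).1, (e a' b' c' d').1] at h1
  rw [(e a b c d).2.1, (e a' b' c' d').2.1] at h2
  rw [(e a b c d).2.2.1, (e a' b' c' d').2.2.1] at h3
  rw [(e a b c d).2.2.2, (e a' b' c' d').2.2.2] at h4
  rw [h1, h2, h3, h4]

namespace LineConfig

variable (cf : LineConfig φ M x) (hK : Nat.card φ.K = 3) (hCM : φ.C ≤ M) (hMF : M ≤ φ.F)
variable (hM : φ.F ⊓ Subgroup.centralizer (M : Set A) = M)
variable (hx : x ≠ 0) (heig : ∀ z ∈ M, ∃ r : φ.K, z • x = r • x)
include hK hCM hMF hM hx heig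

theorem Φ_sm (c : ZMod 3) (w : Line.W) : cf.Φ (Line.sm c w) = c.val • cf.Φ w := by
  rw [sm_eq_nsmul]
  exact map_nsmul (cf.Φh hK) c.val w

theorem smul_lin {g : A} {m m' : Line.W × Line.W × Line.W × Line.W} (h1 : g • cf.Φ m.1 = cf.Φ m'.1)
    (h2 : g • cf.Φ m.2.1 = cf.Φ m'.2.1) (h3 : g • cf.Φ m.2.2.1 = cf.Φ m'.2.2.1)
    (h4 : g • cf.Φ m.2.2.2 = cf.Φ m'.2.2.2) (u : Line.W) :
    g • cf.Φ (Line.lin m u) = cf.Φ (Line.lin m' u) := by
  simp only [Line.lin, cf.Φ_add hK, cf.Φ_sm hK hCM hMF hM hx heig, smul_add, line_smul_nsmul, h1, h2, h3, h4]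

theorem v0_ne : cf.Φ Line.v0 ≠ 0 := fun h => by
  have := cf.Φ_injective hK hx (h.trans (cf.Φ_zero hK).symm)
  revert this; decide

theorem conj_mem_Zc [Group.IsSolvable A] {g : A} (hg : g • cf.Φ Line.v0 = cf.Φ Line.v0) {z : A} (hz : z ∈ cf.Zc) :
    g * z * g⁻¹ ∈ cf.Zc := by
  have hZF : cf.Zc ≤ φ.F := fun y hy => hMF hy.1
  obtain ⟨-, r, -, hr, -⟩ := cf.Zc_smul hK hx heig hz
  have hgi : g⁻¹ • cf.Φ Line.v0 = cf.Φ Line.v0 := inv_smul_eq_iff.mpr hg.symm
  have h1 : (g * z * g⁻¹) • cf.Φ Line.v0 = r • cf.Φ Line.v0 := by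
    rw [mul_smul, mul_smul, hgi, hr, φ.line_smul hK, hg]
  have h2 := φ.mem_pivot_of_eigen (Zp := cf.Zp) rfl hZF (cf.v0_ne hK hCM hMF hM hx heig)
    (fun y hy => by
      obtain ⟨-, r', -, hr', -⟩ := cf.Zc_smul hK hx heig hy
      exact ⟨r', hr' _⟩) (φ.F_normal.conj_mem z (hZF hz) g) h1
  exact cf.free hK hMF hM hx heig h2 h1

theorem conj_mem_Zp [Group.IsSolvable A] {g : A} (hg : g • cf.Φ Line.v0 = cf.Φ Line.v0) {π : A} (hπ : π ∈ cf.Zp) :
    g * π * g⁻¹ ∈ cf.Zp := by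
  refine ⟨φ.F_normal.conj_mem π hπ.1 g, Subgroup.mem_centralizer_iff.mpr fun z hz => ?_⟩
  have h1 := cf.conj_mem_Zc hK hCM hMF hM hx heig (g := g⁻¹) (inv_smul_eq_iff.mpr hg.symm) hz
  have h2 := Subgroup.mem_centralizer_iff.mp hπ.2 _ h1
  rw [inv_inv] at h2
  calc z * (g * π * g⁻¹) = g * (g⁻¹ * z * g * π) * g⁻¹ := by group
    _ = g * (π * (g⁻¹ * z * g)) * g⁻¹ := by rw [h2]
    _ = g * π * g⁻¹ * z := by group

/-- The map induced by an element fixing the free vector. -/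
theorem exists_map [Group.IsSolvable A] {g : A} (hg : g • cf.Φ Line.v0 = cf.Φ Line.v0) :
    ∃ m : Line.W × Line.W × Line.W × Line.W, (∀ u, g • cf.Φ u = cf.Φ (Line.lin m u)) ∧
      (∀ u, g ^ 12 • cf.Φ u = cf.Φ u) ∧ (g • cf.Φ Line.w0 = cf.Φ Line.w0 → ∃ i, m = Line.sym i) := by
  have hgi : g⁻¹ • cf.Φ Line.v0 = cf.Φ Line.v0 := inv_smul_eq_iff.mpr hg.symm
  have hconj : ∀ j : A, (j = cf.j1 ∨ j = cf.j2 ∨ j = cf.s1 ∨ j = cf.s2) → ∃ a : Line.E, ∀ u,
      (g * j * g⁻¹) • cf.Φ u = cf.Φ (Line.ap a u) := fun j hj => by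
    obtain ⟨a, ha, -⟩ := cf.decomp hK hMF hM hx heig
      (cf.conj_mem_Zp hK hCM hMF hM hx heig hg (cf.mem_Zp_of hMF hM hj))
    exact ⟨a, ha⟩
  obtain ⟨a, ha⟩ := hconj _ (Or.inl rfl)
  obtain ⟨b, hb⟩ := hconj _ (Or.inr (Or.inl rfl))
  obtain ⟨c, hc⟩ := hconj _ (Or.inr (Or.inr (Or.inl rfl)))
  have htwist : ∀ {j : A} {f : Line.W → Line.W} {a : Line.E}, (∀ u, j • cf.Φ u = cf.Φ (f u)) →
      (∀ u, (g * j * g⁻¹) • cf.Φ u = cf.Φ (Line.ap a u)) → ∀ u w, g • cf.Φ u = cf.Φ w →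
        g • cf.Φ (f u) = cf.Φ (Line.ap a w) := by
    intro j f a hf ha u w hw
    rw [← hf, ← ha, ← hw, mul_smul, mul_smul, inv_smul_smul]
  have hJ1 := htwist (cf.j1_smul hK) ha _ _ hg
  have hJ2 := htwist (cf.j2_smul hK) hb _ _ hg
  have hS1 := htwist (cf.s1_smul hK) hc _ _ hg
  set m := Line.img (Line.ap a Line.v0) (Line.ap b Line.v0) (Line.ap c Line.v0) with hm
  have hmap : ∀ u, g • cf.Φ u = cf.Φ (Line.lin m u) := by
    intro u
    have e : ((1, 0, 0, 0), (0, 1, 0, 0), (0, 0, 1, 0), (0, 0, 0, 1)) =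
        Line.img (Line.J1 Line.v0) (Line.J2 Line.v0) (Line.S1 Line.v0) := by decide
    conv_lhs => rw [← lin_units u, e]
    refine cf.smul_lin hK hCM hMF hM hx heig ?_ ?_ ?_ ?_ u <;>
      simp only [hm, Line.img, cf.Φ_add hK, cf.Φ_sm hK hCM hMF hM hx heig, smul_add, line_smul_nsmul, hg, hJ1, hJ2, hS1]
  have hinj := cf.Φ_injective hK hx
  have ha2 : Line.ap a (Line.ap a Line.v0) = Line.v0 := by
    refine hinj ?_
    rw [← htwist (cf.j1_smul hK) ha _ _ hJ1, show Line.J1 (Line.J1 Line.v0) = Line.v0 by decide, hg]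
  have hb2 : Line.ap b (Line.ap b Line.v0) = Line.v0 := by
    refine hinj ?_
    rw [← htwist (cf.j2_smul hK) hb _ _ hJ2, show Line.J2 (Line.J2 Line.v0) = Line.v0 by decide, hg]
  have hab : Line.ap a (Line.ap b Line.v0) = Line.ap b (Line.ap a Line.v0) := by
    refine hinj ?_
    rw [← htwist (cf.j1_smul hK) ha _ _ hJ2, ← htwist (cf.j2_smul hK) hb _ _ hJ1,
      show Line.J1 (Line.J2 Line.v0) = Line.J2 (Line.J1 Line.v0) by decide]
  have hc2 : Line.ap c (Line.ap c Line.v0) = Line.v0 := by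
    refine hinj ?_
    rw [← htwist (cf.s1_smul hK) hc _ _ hS1, show Line.S1 (Line.S1 Line.v0) = Line.v0 by decide, hg]
  have hbc : Line.ap b (Line.ap c Line.v0) = Line.ap c (Line.ap b Line.v0) := by
    refine hinj ?_
    rw [← htwist (cf.j2_smul hK) hb _ _ hS1, ← htwist (cf.s1_smul hK) hc _ _ hJ2,
      show Line.J2 (Line.S1 Line.v0) = Line.S1 (Line.J2 Line.v0) by decide]
  have hac : Line.ap a (Line.ap c Line.v0) = -Line.ap c (Line.ap a Line.v0) := by
    refine hinj ?_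
    rw [← htwist (cf.j1_smul hK) ha _ _ hS1, cf.Φ_neg hK, ← htwist (cf.s1_smul hK) hc _ _ hJ1,
      show Line.J1 (Line.S1 Line.v0) = -Line.S1 (Line.J1 Line.v0) by decide, cf.Φ_neg hK, smul_neg]
  have hchk := Line.check_all a ha2 b hb2 hab c hc2 hbc hac
  simp only [Line.check3, ← hm] at hchk
  rw [if_pos (List.all_eq_true.mpr fun u _ => by
    simp only [Bool.and_eq_true, beq_iff_eq]
    refine ⟨⟨hinj ?_, hinj ?_⟩, hinj ?_⟩
    · rw [← hmap, htwist (cf.j1_smul hK) ha _ _ (hmap u)]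
    · rw [← hmap, htwist (cf.j2_smul hK) hb _ _ (hmap u)]
    · rw [← hmap, htwist (cf.s1_smul hK) hc _ _ (hmap u)])] at hchk
  simp only [Bool.and_eq_true, Bool.or_eq_true, List.all_eq_true, List.any_eq_true, beq_iff_eq,
    Bool.not_eq_true', beq_eq_false_iff_ne, ne_eq] at hchk
  obtain ⟨h12, hw⟩ := hchk
  have hit : ∀ (n : ℕ) u, g ^ n • cf.Φ u = cf.Φ ((Line.lin m)^[n] u) := by
    intro n
    induction n with
    | zero => intro u; rw [pow_zero, one_smul, Function.iterate_zero_apply]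
    | succ n ih => intro u; rw [pow_succ, mul_smul, hmap, ih, Function.iterate_succ_apply]
  refine ⟨m, hmap, fun u => ?_, fun h => ?_⟩
  · have hu : ∀ w ∈ Line.units, g ^ 12 • cf.Φ w = cf.Φ w := fun w hw' => by rw [hit, h12 w hw']
    conv_lhs => rw [← lin_units u]
    rw [cf.smul_lin hK hCM hMF hM hx heig (m' := ((1, 0, 0, 0), (0, 1, 0, 0), (0, 0, 1, 0), (0, 0, 0, 1)))
      (hu _ (by decide)) (hu _ (by decide)) (hu _ (by decide)) (hu _ (by decide)) u, lin_units]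
  · rcases hw with hw | ⟨i, -, hi⟩
    · exact absurd (hinj (by rw [← hmap, h])) hw
    · exact ⟨i, hi.symm⟩

/-- Only one involution occurs. -/
theorem exists_involution [Group.IsSolvable A] (hcop : (Nat.card A).Coprime 3) :
    ∃ h : Fin 6, Line.Adm h ∧ h ≠ 0 ∧ ∀ g : A, g • cf.Φ Line.v0 = cf.Φ Line.v0 → g • cf.Φ Line.w0 = cf.Φ Line.w0 →
      ∃ k : Fin 6, (k = 0 ∨ k = h) ∧ ∀ u, g • cf.Φ u = cf.Φ (Line.lin (Line.sym k) u) := by
  have hidx : ∀ g : A, g • cf.Φ Line.v0 = cf.Φ Line.v0 → g • cf.Φ Line.w0 = cf.Φ Line.w0 →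
      ∃ k : Fin 6, Line.Adm k ∧ ∀ u, g • cf.Φ u = cf.Φ (Line.lin (Line.sym k) u) := by
    intro g h1 h2
    obtain ⟨m, hm, -, hw⟩ := cf.exists_map hK hCM hMF hM hx heig h1
    obtain ⟨k, rfl⟩ := hw h2
    refine ⟨k, ?_, hm⟩
    by_contra hna
    have hcube := (Line.sym_cube k).resolve_left hna
    -- a map of order three is trivial
    have h3 : ∀ u ∈ Line.units, g ^ 3 • cf.Φ u = cf.Φ u := fun u hu => by
      have := List.all_eq_true.mp hcube u hu
      rw [beq_iff_eq] at this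
      rw [show (3 : ℕ) = 1 + 1 + 1 from rfl, pow_succ, pow_succ, pow_one, mul_smul, mul_smul, hm, hm, hm]
      simpa only [Function.iterate_succ_apply', Function.iterate_zero_apply] using congrArg cf.Φ this
    obtain ⟨i, hi⟩ := exists_pow_eq_self_of_coprime (x := g) (n := 3)
      (Nat.Coprime.coprime_dvd_right (orderOf_dvd_natCard g) hcop.symm)
    have hgu : ∀ u ∈ Line.units, g • cf.Φ u = cf.Φ u := fun u hu => by
      have : ∀ j : ℕ, (g ^ 3) ^ j • cf.Φ u = cf.Φ u := fun j => by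
        induction j with
        | zero => rw [pow_zero, one_smul]
        | succ j ih => rw [pow_succ, mul_smul, h3 u hu, ih]
      have := this i
      rwa [hi] at this
    have h0 : Line.sym k = Line.sym 0 := lin_ext fun u hu => by
      refine cf.Φ_injective hK hx ?_
      rw [← hm, hgu u hu]
      exact congrArg cf.Φ (lin_units u).symm
    exact hna (((Line.sym_zero k).mp h0) ▸ (show Line.Adm 0 by decide))
  by_cases hall : ∃ g : A, g • cf.Φ Line.v0 = cf.Φ Line.v0 ∧ g • cf.Φ Line.w0 = cf.Φ Line.w0 ∧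
      ∃ k : Fin 6, Line.Adm k ∧ k ≠ 0 ∧ ∀ u, g • cf.Φ u = cf.Φ (Line.lin (Line.sym k) u)
  · obtain ⟨g0, hv0, hw0, k0, hk0, hk00, hm0⟩ := hall
    refine ⟨k0, hk0, hk00, fun g hv hw => ?_⟩
    obtain ⟨k, hk, hm⟩ := hidx g hv hw
    refine ⟨k, ?_, hm⟩
    obtain ⟨k', hk', hm'⟩ := hidx (g0 * g) (by rw [mul_smul, hv, hv0]) (by rw [mul_smul, hw, hw0])
    rcases Line.sym_mul k0 k hk0 hk with h | h | h | h
    · exact absurd h hk00
    · exact Or.inl h
    · exact Or.inr h.symm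
    · obtain ⟨u, hu, hne⟩ := h k' hk'
      exact absurd (cf.Φ_injective hK hx (by rw [← hm', mul_smul, hm, hm0])) hne
  · refine ⟨1, by decide, by decide, fun g hv hw => ?_⟩
    obtain ⟨k, hk, hm⟩ := hidx g hv hw
    refine ⟨k, Or.inl ?_, hm⟩
    by_contra hk0
    exact hall ⟨g, hv, hw, k, hk, hk0, hm⟩

/-- If the pivot centraliser is everything there are no such groups. -/
theorem not_full [Group.IsSolvable A] (hcop : (Nat.card A).Coprime 3)
    (hdim : ∀ y, φ.InBlock M x y → ∃ c : φ.K, y = c • x) (hfull : φ.F ≤ cf.Zp) : False := by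
  classical
  have hZC : cf.Zc ≤ φ.C := fun z hz => φ.center_eq.le ⟨hMF hz.1, Subgroup.mem_centralizer_iff.mpr fun f hf =>
    (Subgroup.mem_centralizer_iff.mp (hfull hf).2 z hz).symm⟩
  have hall : ∀ y : V, ∃ u, y = cf.Φ u := fun y =>
    cf.exists_coord hK hMF hM hx heig hdim fun z hz r hr => by
      have := φ.scal_smul z (hZC hz) x
      rw [← φ.scal_smul z (hZC hz) y, φ.smul_left_cancel' hx (this.trans hr)]
  have hinj := cf.Φ_injective hK hx
  -- the free vectors form one orbit under `F`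
  have horb : ∀ g : A, ∃ π ∈ φ.F, (π⁻¹ * g) • cf.Φ Line.v0 = cf.Φ Line.v0 := by
    intro g
    obtain ⟨u, hu⟩ := hall (g • cf.Φ Line.v0)
    have hfree : ∀ e : Line.E, (Line.ap e u = u ∨ Line.ap e u = -u) → e.2 = (false, false, false, false) := by
      intro e he
      have hπ := (cf.el_mem_Zp hK hCM hMF hM e).1
      obtain ⟨r, hr⟩ : ∃ r : φ.K, cf.el e • cf.Φ u = r • cf.Φ u := by
        rcases he with he | he
        · exact ⟨1, by rw [cf.el_smul hK, he, one_smul]⟩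
        · exact ⟨-1, by rw [cf.el_smul hK, he, cf.Φ_neg hK, neg_one_smul]⟩
      have h1 : (g⁻¹ * cf.el e * g) • cf.Φ Line.v0 = r • cf.Φ Line.v0 := by
        rw [← hu, mul_smul] at *
        rw [mul_smul, hr, φ.line_smul hK, inv_smul_smul]
      have h2 : g⁻¹ * cf.el e * g ∈ φ.F := by
        simpa using φ.F_normal.conj_mem _ hπ g⁻¹
      have h3 := hZC (cf.free hK hMF hM hx heig (hfull h2) h1)
      have h4 : cf.el e ∈ φ.C := by
        have := φ.C_normal.conj_mem _ h3 g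
        simpa [mul_assoc] using this
      refine Line.v0_free e ?_
      by_cases h : cf.el e = 1
      · exact Or.inl (hinj (by rw [← cf.el_smul hK, h, one_smul]))
      · exact Or.inr (hinj (by rw [← cf.el_smul hK, φ.line_C_neg hK h4 h, cf.Φ_neg hK]))
    obtain ⟨e, rfl⟩ := Line.free_orbit u hfree
    exact ⟨cf.el e, (cf.el_mem_Zp hK hCM hMF hM e).1, by rw [mul_smul, hu, ← cf.el_smul hK, inv_smul_smul]⟩
  have hexp : ∀ g : A, g ^ 16 = 1 := by
    intro g
    obtain ⟨π, hπ, hh⟩ := horb g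
    obtain ⟨-, -, h12, -⟩ := cf.exists_map hK hCM hMF hM hx heig hh
    set h := π⁻¹ * g with hdef
    have h12' : h ^ 12 = 1 := eq_of_smul_eq_smul (α := V) fun y => by
      obtain ⟨u, rfl⟩ := hall y
      rw [h12, one_smul]
    have h4 : h ^ 4 = 1 := by
      rw [← orderOf_dvd_iff_pow_eq_one]
      exact (Nat.Coprime.coprime_dvd_left (orderOf_dvd_natCard h) hcop).dvd_of_dvd_mul_left
        (orderOf_dvd_iff_pow_eq_one.mpr h12')
    have hg4 : g ^ 4 ∈ φ.F := by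
      rw [← QuotientGroup.eq_one_iff, QuotientGroup.mk_pow, show g = π * h by rw [hdef, mul_inv_cancel_left],
        QuotientGroup.mk_mul, (QuotientGroup.eq_one_iff π).mpr hπ, one_mul, ← QuotientGroup.mk_pow, h4,
        QuotientGroup.mk_one]
    have hf := φ.line_C_sq hK (φ.sq_mem_C hK hg4)
    rw [← pow_add, ← pow_add] at hf
    exact hf
  -- a two group fixes a coset
  let q := QuotientGroup.mk' φ.C
  have hq := QuotientGroup.mk'_surjective φ.C
  have hp : IsPGroup 2 (A ⧸ φ.C) := fun a => ⟨4, by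
    obtain ⟨g, rfl⟩ := hq a
    rw [← map_pow, show 2 ^ 4 = 16 from rfl, hexp, map_one]⟩
  let U := φ.F.map q
  haveI : U.Normal := Subgroup.Normal.map inferInstance q hq
  letI : MulAction (A ⧸ φ.C) U := MulAction.compHom U (MulAut.conjNormal : A ⧸ φ.C →* MulAut U)
  have hU : (2 : ℕ) ∣ Nat.card U := by
    have hj : (⟨q cf.j1, cf.j1, hMF cf.j1M, rfl⟩ : U) ≠ 1 := fun e => by
      have hjC : cf.j1 ∈ φ.C := (QuotientGroup.eq_one_iff _).mp (congrArg Subtype.val e)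
      exact φ.not_comm_of_anti hK cf.anti1 (φ.comm_C_L hjC (φ.F_le cf.s1F))
    have h2 : (⟨q cf.j1, cf.j1, hMF cf.j1M, rfl⟩ : U) ^ 2 = 1 := Subtype.ext (by
      show q cf.j1 ^ 2 = 1
      rw [← map_pow, sq, cf.j1j1, map_one])
    exact (orderOf_eq_prime h2 hj) ▸ orderOf_dvd_natCard _
  obtain ⟨u, hu, hu1⟩ := hp.exists_fixed_point_of_prime_dvd_card_of_fixed_point U hU (a := 1)
    fun a => map_one (MulAut.conjNormal a : MulAut U)
  obtain ⟨_, f, hf, rfl⟩ := u
  have hcent : ∀ a : A, q a * q f = q f * q a := fun a => by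
    have h2 : MulAut.conjNormal (q a) (⟨q f, f, hf, rfl⟩ : U) = ⟨q f, f, hf, rfl⟩ := hu (q a)
    have h3 := congrArg Subtype.val h2
    rw [MulAut.conjNormal_apply] at h3
    exact mul_inv_eq_iff_eq_mul.mp h3
  let N : Subgroup A := (Subgroup.zpowers (q f)).comap q
  haveI : (Subgroup.zpowers (q f)).Normal := ⟨fun y hy a => by
    obtain ⟨n, rfl⟩ := hy
    obtain ⟨a, rfl⟩ := hq a
    rw [((show Commute (q a) (q f) from hcent a).zpow_right n).eq, mul_inv_cancel_right]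
    exact ⟨n, rfl⟩⟩
  have hN : ∀ y ∈ N, ∃ (n : ℤ) (c : A), c ∈ φ.C ∧ y = f ^ n * c := fun y hy => by
    obtain ⟨n, hn⟩ := hy
    refine ⟨n, (f ^ n)⁻¹ * y, ?_, (mul_inv_cancel_left _ _).symm⟩
    exact QuotientGroup.eq.mp ((map_zpow q f n).trans hn)
  have hNC := φ.C_max N (Subgroup.Normal.comap inferInstance q) (fun y hy z hz => by
    obtain ⟨n, c, hc, rfl⟩ := hN y hy
    obtain ⟨m, d, hd, rfl⟩ := hN z hz
    have h1 : Commute c f := φ.comm_C_L hc (φ.F_le hf)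
    have h2 : Commute d f := φ.comm_C_L hd (φ.F_le hf)
    have h3 : Commute c d := φ.C_comm c hc d hd
    exact (Commute.mul_left (Commute.mul_right ((Commute.refl f).zpow_zpow n m) (h2.zpow_right n).symm)
      (Commute.mul_right (h1.zpow_right m) h3)).eq) (fun c hc => ⟨0, by
        exact (zpow_zero (q f)).trans ((QuotientGroup.eq_one_iff c).mpr hc).symm⟩)
  have hfC : f ∈ φ.C := hNC.le (Subgroup.mem_zpowers (q f))
  exact hu1 (Subtype.ext ((QuotientGroup.eq_one_iff f).mpr hfC).symm)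

end LineConfig

end CfsgLib.OddPair.Frame
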